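import Cfsg.Agent.MultPSLThreeFour.Cover
import Cfsg.Agent.MultPSLThreeFour.Upper

/-!
# The monomial cover `4².L₃(4)` covers every cover of `L₃(4)` with a kernel of 2-power order

`M0` is generated by the tabulated monomial permutations. Every finite perfect central extension of
`L₃(4)` is an image of the stem extension with kernel `Z₃ × Z₄ × Z₄`, which maps onto `M0` with a
kernel of order three; so extensions with kernel of order prime to three are images of `M0`.
-/

set_option autoImplicit false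
set_option linter.style.haveILetI false
set_option linter.unusedSectionVars false

namespace CfsgLib.ONanRec

open CfsgLib.MultPSLThreeFour CfsgLib.MultPSL
open scoped commutatorElement

universe u v

/-- The monomial cover. -/
def M0 : Subgroup Mon := Subgroup.closure (Set.range gen)

theorem gen_mem (g : Fin 24) : gen g ∈ M0 := Subgroup.subset_closure ⟨g, rfl⟩

theorem ev_mem (w : List (Fin 24)) : ev w ∈ M0 := by
  refine list_prod_mem fun x hx => ?_
  obtain ⟨g, -, rfl⟩ := List.mem_map.1 hx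
  exact gen_mem g

/-- A letter inside `M0`. -/
def g0 (g : Fin 24) : M0 := ⟨gen g, gen_mem g⟩

theorem closure_g0 : Subgroup.closure (Set.range g0) = ⊤ := by
  rw [eq_top_iff]
  rintro ⟨x, hx⟩ -
  induction hx using Subgroup.closure_induction with
  | mem y hy => obtain ⟨g, rfl⟩ := hy; exact Subgroup.subset_closure ⟨g, rfl⟩
  | one => exact one_mem _
  | mul y z hy hz iy iz => exact mul_mem iy iz
  | inv y hy iy => exact inv_mem iy

theorem cw_mem_commutator (a b : Fin 24) :
    (⟨ev (cw a b), ev_mem _⟩ : M0) ∈ commutator M0 := by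
  have : (⟨ev (cw a b), ev_mem _⟩ : M0) = ⁅g0 a, g0 b⁆ := Subtype.ext (by
    simp [ev, cw, g0, gen_flip, commutatorElement_def, mul_assoc])
  rw [this]
  exact Subgroup.commutator_mem_commutator (Subgroup.mem_top _) (Subgroup.mem_top _)

theorem sc_mem_commutator (c : Multiplicative (ZMod 4 × ZMod 4)) :
    ∃ h : sc c ∈ M0, (⟨sc c, h⟩ : M0) ∈ commutator M0 := by
  have key : ∀ (w : List (Fin 24 × Fin 24)),
      (⟨ev (w.flatMap fun p => cw p.1 p.2), ev_mem _⟩ : M0) ∈ commutator M0 := by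
    intro w
    induction w with
    | nil =>
      convert one_mem (commutator M0) using 1
      exact Subtype.ext (by simp [ev])
    | cons p w ih =>
      convert mul_mem (cw_mem_commutator p.1 p.2) ih using 1
      exact Subtype.ext (by simp [ev, List.flatMap_cons, List.map_append, List.prod_append])
  let A : Subgroup (Multiplicative (ZMod 4 × ZMod 4)) :=
    ((commutator M0).map M0.subtype).comap sc
  have h1 : Multiplicative.ofAdd ((1, 0) : ZMod 4 × ZMod 4) ∈ A := by
    refine ⟨⟨_, ev_mem _⟩, key [(lv 0 1, lu 1 2), (lv 1 2, lu 0 1)], ?_⟩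
    rw [← ev_of_chkIs _ ((1, 0) : ZMod 4 × ZMod 4) scalar_check.1]
    rfl
  have h2 : Multiplicative.ofAdd ((1, 1) : ZMod 4 × ZMod 4) ∈ A := by
    refine ⟨⟨_, ev_mem _⟩, key [(lv 0 1, lv 1 2), (lv 1 2, lu 0 1), (lu 1 2, lu 0 1)], ?_⟩
    rw [← ev_of_chkIs _ ((1, 1) : ZMod 4 × ZMod 4) scalar_check.2]
    rfl
  obtain ⟨x, hx, e⟩ : c ∈ A := by
    have e : ∀ c : ZMod 4 × ZMod 4,
        (c.1 - c.2).val • ((1, 0) : ZMod 4 × ZMod 4) + c.2.val • ((1, 1) : ZMod 4 × ZMod 4) = c := by
      decide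
    have := mul_mem (pow_mem h1 (c.toAdd.1 - c.toAdd.2).val) (pow_mem h2 c.toAdd.2.val)
    rwa [← ofAdd_nsmul, ← ofAdd_nsmul, ← ofAdd_add, e] at this
  obtain ⟨x, hx'⟩ := x
  change x = sc c at e
  subst e
  exact ⟨hx', hx⟩

theorem sc_mem (c : Multiplicative (ZMod 4 × ZMod 4)) : sc c ∈ M0 := (sc_mem_commutator c).1

/-- The scalars inside `M0`. -/
def sc0 : Multiplicative (ZMod 4 × ZMod 4) →* M0 := sc.codRestrict M0 sc_mem

theorem sc0_central (c : Multiplicative (ZMod 4 × ZMod 4)) : sc0 c ∈ Subgroup.center M0 :=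
  Subgroup.mem_center_iff.2 fun x =>
    Subtype.ext (Subgroup.mem_center_iff.1 (sc_central c) (x : Mon))

section

variable {F : Type u} [Field F] [Fintype F] [DecidableEq F]

/-- The monomial cover over `PSL₃(4)`. -/
theorem exists_cover_M0 (hF : Fintype.card F = 4) :
    ∃ (w : F) (σ : M0 →* Matrix.ProjectiveSpecialLinearGroup (Fin 3) F),
      Four w ∧ Cfsg.IsStemExtension σ ∧ σ.ker = sc0.range ∧ ∀ i j : Fin 3, i ≠ j →
        σ (g0 (lu i j)) = proot i j 1 ∧ σ (g0 (lv i j)) = proot i j w := by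
  classical
  obtain ⟨w, hw⟩ := exists_four hF
  obtain ⟨θ, hθ⟩ := exists_hom_of_stein (stein_X hw) (by simp)
  set π := QuotientGroup.mk' sc.range with hπ
  have hrange : θ.range = M0.map π := by
    refine le_antisymm ?_ ?_
    · rw [MonoidHom.range_eq_map θ, ← closure_el, Subgroup.map_le_iff_le_comap, Subgroup.closure_le]
      rintro _ ⟨i, j, hij, a, rfl⟩
      rw [SetLike.mem_coe, Subgroup.mem_comap, hθ i j hij]
      have hm : ∀ g, img g ∈ M0.map π := fun g => ⟨gen g, gen_mem g, rfl⟩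
      rcases hw.all a with rfl | rfl | rfl | rfl
      · rw [X_zero]; exact one_mem _
      · rw [X_one]; exact hm _
      · rw [X_w hw]; exact hm _
      · rw [X_add_w hw]; exact mul_mem (hm _) (hm _)
    · rw [M0, Subgroup.map_le_iff_le_comap, Subgroup.closure_le]
      rintro _ ⟨g, rfl⟩
      have hg : ∀ g : Fin 24, ∃ i j, i ≠ j ∧
          (g = lu i j ∨ g = lv i j ∨ g = flip24 (lu i j) ∨ g = flip24 (lv i j)) := by decide
      obtain ⟨i, j, hij, hc⟩ := hg g
      have h1 : img (lu i j) ∈ θ.range := ⟨el i j 1, by rw [hθ i j hij, X_one]⟩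
      have h2 : img (lv i j) ∈ θ.range := ⟨el i j w, by rw [hθ i j hij, X_w hw]⟩
      show img g ∈ θ.range
      rcases hc with rfl | rfl | rfl | rfl
      · exact h1
      · exact h2
      · rw [img_flip]; exact inv_mem h1
      · rw [img_flip]; exact inv_mem h2
  set L := Matrix.ProjectiveSpecialLinearGroup (Fin 3) F
  set Z := Subgroup.center (Matrix.SpecialLinearGroup (Fin 3) F) with hZ
  haveI : IsSimpleGroup L := Linear.isSimpleGroup_PSL (by simp)
  -- `θ` kills the centre
  have hker : Z ≤ θ.ker := by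
    have hperfect : commutator (Matrix.SpecialLinearGroup (Fin 3) F) = ⊤ :=
      Linear.commutator_SL_eq_top (by simp)
    obtain ⟨z, hz, hzc, hθz⟩ : ∃ z : Matrix.SpecialLinearGroup (Fin 3) F,
        z ∈ Z ∧ z ≠ 1 ∧ θ z = 1 := by
      have n01 : (0 : Fin 3) ≠ 1 := by decide
      have n12 : (1 : Fin 3) ≠ 2 := by decide
      have hww : w * w ≠ 0 := mul_ne_zero hw.ne0 hw.ne0
      have hw3 : w * (w * w) = 1 := by
        linear_combination (w + 1) * hw.sq + w * hw.two
      have hinv : w⁻¹ = w * w := inv_eq_of_mul_eq_one_right hw3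
      have hinv2 : (w * w)⁻¹ = w := inv_eq_of_mul_eq_one_left hw3
      refine ⟨T el 0 1 w * T el 1 2 (w * w), ?_, ?_, ?_⟩
      case _ =>
        have hzd : ((T el 0 1 w * T el 1 2 (w * w) : Matrix.SpecialLinearGroup (Fin 3) F) :
            Matrix (Fin 3) (Fin 3) F) = Matrix.diagonal fun _ => w := by
          rw [T_el_eq n01 hw.ne0, T_el_eq n12 hww, Matrix.SpecialLinearGroup.coe_mul,
            Matrix.SpecialLinearGroup.diag2n_coe, Matrix.SpecialLinearGroup.diag2n_coe,
            Matrix.diagonal_mul_diagonal]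
          congr 1
          funext m
          fin_cases m <;> simp [hinv] <;> linear_combination w * hw3
        refine Subgroup.mem_center_iff.2 fun g => Subtype.ext ?_
        show (g : Matrix (Fin 3) (Fin 3) F) *
            ((T el 0 1 w * T el 1 2 (w * w) : Matrix.SpecialLinearGroup (Fin 3) F) : Matrix (Fin 3) (Fin 3) F) =
          ((T el 0 1 w * T el 1 2 (w * w) : Matrix.SpecialLinearGroup (Fin 3) F) : Matrix (Fin 3) (Fin 3) F) * g
        rw [hzd]
        ext a b
        rw [Matrix.mul_diagonal, Matrix.diagonal_mul, mul_comm]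
      case _ =>
        intro e
        have e' := congrArg
          (fun g : Matrix.SpecialLinearGroup (Fin 3) F => (g : Matrix (Fin 3) (Fin 3) F) 0 0) e
        beta_reduce at e'
        rw [T_el_eq n01 hw.ne0, T_el_eq n12 hww, Matrix.SpecialLinearGroup.coe_mul,
          Matrix.SpecialLinearGroup.diag2n_coe, Matrix.SpecialLinearGroup.diag2n_coe,
          Matrix.diagonal_mul_diagonal] at e'
        simp at e'
        exact hw.ne1 e'
      case _ =>
        have hneg : ∀ a : F, -a = a := fun a => by linear_combination (-a) * hw.two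
        simp only [T, W, map_mul, hθ _ _ n01, hθ _ _ n01.symm, hθ _ _ n12, hθ _ _ n12.symm, hneg,
          inv_one, hinv, hinv2]
        rw [hw.sq]
        simp only [X_one, X_w hw, X_add_w hw]
        have h := img_word _ centre_check
        simpa [centreWord, mul_assoc] using h
    have hc3 : Nat.card Z = 3 := by
      rw [hZ, Linear.card_center_SL, Fintype.card_fin, hF]; rfl
    haveI : Fact (Nat.Prime 3) := ⟨Nat.prime_three⟩
    have htop : Subgroup.zpowers (⟨z, hz⟩ : Z) = ⊤ :=
      zpowers_eq_top_of_prime_card hc3 fun e => hzc (congrArg Subtype.val e)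
    intro y hy
    obtain ⟨k, hk⟩ : (⟨y, hy⟩ : Z) ∈ Subgroup.zpowers (⟨z, hz⟩ : Z) := htop ▸ Subgroup.mem_top _
    rw [MonoidHom.mem_ker, ← show z ^ k = y from congrArg Subtype.val hk, map_zpow, hθz, one_zpow]
  let θb : L →* Qt := QuotientGroup.lift Z θ hker
  have hθb : θb.range = M0.map π := by
    rw [← hrange]
    ext q
    constructor
    · rintro ⟨x, rfl⟩
      obtain ⟨s, rfl⟩ := QuotientGroup.mk'_surjective Z x
      exact ⟨s, rfl⟩
    · rintro ⟨s, rfl⟩
      exact ⟨QuotientGroup.mk' Z s, rfl⟩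
  have hne : ∃ q ∈ M0.map π, q ≠ 1 := by
    refine ⟨img 0, ⟨gen 0, gen_mem 0, rfl⟩, fun e => ?_⟩
    obtain ⟨c, hc⟩ := (QuotientGroup.eq_one_iff _).1 e
    have h0 := congrArg (fun f : Mon => ((f : Equiv.Perm Pt) (0, 0)).1.val) hc
    have h1 : ((sc c : Equiv.Perm Pt) ((0 : Fin 280), (0 : Vlt))).1.val = 0 := rfl
    beta_reduce at h0
    rw [h1] at h0
    have h2 : run [0] (enc ((0 : Fin 280), (0 : Vlt))) % 65536 = 0 := by
      rw [show [0] = [(0 : Fin 24)].map Fin.val from rfl, run_enc, ← ev_apply, enc_mod]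
      simpa [ev] using h0.symm
    have h3 : (run [0] 0 % 65536 == 0) = false := by decide +kernel
    rw [show enc ((0 : Fin 280), (0 : Vlt)) = 0 from rfl] at h2
    simp [h2] at h3
  have hinj : Function.Injective θb := by
    refine (MonoidHom.ker_eq_bot_iff θb).1
      ((IsSimpleGroup.eq_bot_or_eq_top_of_normal θb.ker inferInstance).resolve_right fun e => ?_)
    obtain ⟨q, hq, hq1⟩ := hne
    rw [← hθb] at hq
    obtain ⟨x, rfl⟩ := hq
    exact hq1 (MonoidHom.mem_ker.1 (e ▸ Subgroup.mem_top x))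
  let e1 : L ≃* M0.map π :=
    (MonoidHom.ofInjective hinj).trans (MulEquiv.subgroupCongr hθb)
  let σ : M0 →* L := e1.symm.toMonoidHom.comp (π.subgroupMap M0)
  have hσker : σ.ker = sc0.range := by
    ext x
    simp only [σ, MonoidHom.mem_ker, MonoidHom.comp_apply, MulEquiv.coe_toMonoidHom,
      map_eq_one_iff e1.symm e1.symm.injective]
    constructor
    · intro h
      have h' : π (x : Mon) = 1 := congrArg Subtype.val h
      obtain ⟨c, hc⟩ := (QuotientGroup.eq_one_iff _).1 h'
      exact ⟨c, Subtype.ext hc⟩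
    · rintro ⟨c, rfl⟩
      exact Subtype.ext ((QuotientGroup.eq_one_iff _).2 ⟨c, rfl⟩)
  have hval : ∀ i j : Fin 3, i ≠ j → ∀ (a : F) (g : Fin 24), X w i j a = img g →
      σ (g0 g) = proot i j a := fun i j hij a g h => by
    refine e1.symm_apply_eq.2 (Subtype.ext ?_)
    show img g = θ (el i j a)
    rw [hθ i j hij, h]
  refine ⟨w, σ, hw, ⟨e1.symm.surjective.comp (π.subgroupMap_surjective M0), ?_, ?_⟩, hσker,
    fun i j hij => ⟨hval i j hij 1 _ (X_one i j), hval i j hij w _ (X_w hw i j)⟩⟩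
  · rw [hσker]; rintro _ ⟨c, rfl⟩; exact sc0_central c
  · rw [hσker]; rintro _ ⟨c, rfl⟩
    exact (sc_mem_commutator c).2

/-- Lagrange for a surjection. -/
theorem card_ker_mul {A B : Type*} [Group A] [Group B] (f : A →* B) (hf : Function.Surjective f) :
    Nat.card f.ker * Nat.card B = Nat.card A := by
  rw [← Subgroup.card_top (G := B), ← MonoidHom.range_eq_top.2 hf, ← Subgroup.index_ker,
    Subgroup.card_mul_index]

/-- Every stem extension is an image of one with kernel of order 48. -/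
theorem universal (hF : Fintype.card F = 4) {Γ : Type*} [Group Γ] [Finite Γ]
    (τ : Γ →* Matrix.ProjectiveSpecialLinearGroup (Fin 3) F) (hτ : Cfsg.IsStemExtension τ)
    (hτk : Nat.card τ.ker = 48) {E : Type*} [Group E] [Finite E]
    (ρ : E →* Matrix.ProjectiveSpecialLinearGroup (Fin 3) F) (hρ : Cfsg.IsStemExtension ρ) :
    ∃ q : Γ →* E, Function.Surjective q ∧ ρ.comp q = τ := by
  classical
  set L := Matrix.ProjectiveSpecialLinearGroup (Fin 3) F
  have hQ : commutator L = ⊤ := Linear.commutator_PSL_eq_top (ι := Fin 3) (F := F) (by simp)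
  let P : Subgroup (Γ × E) :=
    MonoidHom.eqLocus (τ.comp (MonoidHom.fst Γ E)) (ρ.comp (MonoidHom.snd Γ E))
  let D : Subgroup (Γ × E) := ⁅P, P⁆
  have hDP : D ≤ P := Subgroup.commutator_le_self P
  have hΓ : commutator Γ = ⊤ := commutator_eq_top_of_stem τ hτ hQ
  have hE : commutator E = ⊤ := commutator_eq_top_of_stem ρ hρ hQ
  have hP1 : P.map (MonoidHom.fst Γ E) = ⊤ := eq_top_iff.2 fun γ _ => by
    obtain ⟨x, hx⟩ := hρ.1 (τ γ)
    exact ⟨(γ, x), hx.symm, rfl⟩
  have hP2 : P.map (MonoidHom.snd Γ E) = ⊤ := eq_top_iff.2 fun x _ => by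
    obtain ⟨γ, hγ⟩ := hτ.1 (ρ x)
    exact ⟨(γ, x), hγ, rfl⟩
  have hDc : D = ⁅P, P⁆ := rfl
  have h1 : D.map (MonoidHom.fst Γ E) = ⊤ := by
    rw [hDc, Subgroup.map_commutator, hP1, ← commutator_def, hΓ]
  have h2 : D.map (MonoidHom.snd Γ E) = ⊤ := by
    rw [hDc, Subgroup.map_commutator, hP2, ← commutator_def, hE]
  let f1 : D →* Γ := (MonoidHom.fst Γ E).comp D.subtype
  let f2 : D →* E := (MonoidHom.snd Γ E).comp D.subtype
  have s1 : Function.Surjective f1 := fun γ => by
    obtain ⟨x, hx, e⟩ : γ ∈ D.map (MonoidHom.fst Γ E) := h1 ▸ Subgroup.mem_top γ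
    exact ⟨⟨x, hx⟩, e⟩
  have s2 : Function.Surjective f2 := fun y => by
    obtain ⟨x, hx, e⟩ : y ∈ D.map (MonoidHom.snd Γ E) := h2 ▸ Subgroup.mem_top y
    exact ⟨⟨x, hx⟩, e⟩
  -- a perfect central extension
  have hcen : ∀ x ∈ P, τ x.1 = 1 → ∀ y : Γ × E, x * y = y * x := by
    intro x hx h y
    have h' : ρ x.2 = 1 := by
      have : τ x.1 = ρ x.2 := hx
      rw [← this, h]
    exact Prod.ext (Subgroup.mem_center_iff.1 (hτ.2.1 h) y.1).symm
      (Subgroup.mem_center_iff.1 (hρ.2.1 h') y.2).symm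
  have hsplit : ∀ x ∈ P, ∃ d ∈ D, ∀ y : Γ × E, d⁻¹ * x * y = y * (d⁻¹ * x) := by
    intro x hx
    obtain ⟨d, hd, e⟩ : x.1 ∈ D.map (MonoidHom.fst Γ E) := h1 ▸ Subgroup.mem_top _
    refine ⟨d, hd, hcen _ (mul_mem (inv_mem (hDP hd)) hx) ?_⟩
    show τ (d.1⁻¹ * x.1) = 1
    rw [show d.1 = x.1 from e, inv_mul_cancel, map_one]
  have hperf : commutator D = ⊤ := by
    have hle : ⁅P, P⁆ ≤ ⁅D, D⁆ := by
      rw [Subgroup.commutator_le]
      intro x hx y hy
      obtain ⟨d, hd, hdc⟩ := hsplit x hx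
      obtain ⟨d', hd', hdc'⟩ := hsplit y hy
      have e : ⁅x, y⁆ = ⁅d, d'⁆ := by
        rw [← SchurTheory.commutatorElement_mul_mem_center (x := d) (y := d')
          (Subgroup.mem_center_iff.2 fun z => (hdc z).symm)
          (Subgroup.mem_center_iff.2 fun z => (hdc' z).symm), mul_inv_cancel_left,
          mul_inv_cancel_left]
      rw [e]
      exact Subgroup.commutator_mem_commutator hd hd'
    rw [eq_top_iff]
    rintro ⟨x, hx⟩ -
    have hxD : x ∈ (commutator D).map D.subtype := by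
      rw [commutator_def, Subgroup.map_commutator, ← MonoidHom.range_eq_map,
        Subgroup.range_subtype]
      exact hle (hDc ▸ hx)
    obtain ⟨y, hy, e⟩ := hxD
    rwa [show (⟨x, hx⟩ : D) = y from Subtype.ext e.symm]
  let ν : D →* L := τ.comp f1
  have hν : Cfsg.IsStemExtension ν := by
    refine ⟨hτ.1.comp s1, fun x hx => Subgroup.mem_center_iff.2 fun y => Subtype.ext ?_,
      fun x _ => hperf ▸ Subgroup.mem_top x⟩
    exact (hcen x.1 (hDP x.2) hx y.1).symm
  obtain ⟨π, hπ⟩ := exists_surjective hF ν hν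
  have hνk : Nat.card ν.ker ≤ 48 := by
    refine (Nat.card_le_card_of_surjective π hπ).trans (le_of_eq ?_)
    rw [Nat.card_congr Multiplicative.toAdd, Nat.card_prod, Nat.card_prod, Nat.card_zmod,
      Nat.card_zmod]
  have hb : Function.Bijective f1 := by
    refine Function.Surjective.bijective_of_nat_card_le s1 ?_
    rw [← ν.ker.card_mul_index, ← τ.ker.card_mul_index, Subgroup.index_ker, Subgroup.index_ker,
      MonoidHom.range_eq_top.2 hν.1, MonoidHom.range_eq_top.2 hτ.1, hτk]
    exact Nat.mul_le_mul_right _ hνk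
  let e := MulEquiv.ofBijective f1 hb
  refine ⟨f2.comp e.symm.toMonoidHom, s2.comp e.symm.surjective, MonoidHom.ext fun γ => ?_⟩
  show ρ (f2 (e.symm γ)) = τ γ
  have h : τ ((e.symm γ : D) : Γ × E).1 = ρ ((e.symm γ : D) : Γ × E).2 := hDP (e.symm γ).2
  rw [show f2 (e.symm γ) = ((e.symm γ : D) : Γ × E).2 from rfl, ← h,
    show ((e.symm γ : D) : Γ × E).1 = f1 (e.symm γ) from rfl, show f1 (e.symm γ) = γ from
      e.apply_symm_apply γ]

/-- A perfect central extension with kernel of order prime to three is an image of `M0`. -/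
theorem exists_cover_hom (hF : Fintype.card F = 4) {M : Type v} [Group M] [Finite M]
    (σ0 : M0 →* Matrix.ProjectiveSpecialLinearGroup (Fin 3) F) (h0 : Cfsg.IsStemExtension σ0)
    (hk0 : σ0.ker = sc0.range)
    (σ : M →* Matrix.ProjectiveSpecialLinearGroup (Fin 3) F) (hσ : Cfsg.IsStemExtension σ)
    (h3 : ¬ 3 ∣ Nat.card σ.ker) :
    ∃ p : M0 →* M, Function.Surjective p ∧ σ.comp p = σ0 := by
  classical
  set L := Matrix.ProjectiveSpecialLinearGroup (Fin 3) F
  obtain ⟨Γ, _, _, τ, hτ, ⟨eτ⟩⟩ := exists_cover hF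
  have hτk : Nat.card τ.ker = 48 := by
    rw [Nat.card_congr eτ.toEquiv, Nat.card_congr Multiplicative.toAdd, Nat.card_prod, Nat.card_prod,
      Nat.card_zmod, Nat.card_zmod]
  haveI : Finite Mon := Finite.of_injective (fun f : Mon => (f : Equiv.Perm Pt)) Subtype.val_injective
  obtain ⟨q0, hq0, e0⟩ := universal hF τ hτ hτk σ0 h0
  obtain ⟨qM, hqM, eM⟩ := universal hF τ hτ hτk σ hσ
  have hsc : Function.Injective sc0 := fun a b h =>
    sc_injective (congrArg Subtype.val h)
  have hk16 : Nat.card σ0.ker = 16 := by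
    rw [hk0, ← Nat.card_congr (MonoidHom.ofInjective hsc).toEquiv,
      Nat.card_congr Multiplicative.toAdd, Nat.card_prod, Nat.card_zmod]
  have hk3 : Nat.card q0.ker = 3 := by
    have h1 := card_ker_mul q0 hq0
    have h2 := card_ker_mul τ hτ.1
    have h3 := card_ker_mul σ0 h0.1
    rw [hτk] at h2
    rw [hk16] at h3
    have hL : 0 < Nat.card L := Nat.card_pos
    rw [← h3] at h1
    have : Nat.card q0.ker * 16 * Nat.card L = 48 * Nat.card L := by rw [mul_assoc, h1, h2]
    have := Nat.eq_of_mul_eq_mul_right hL this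
    omega
  have hle : q0.ker ≤ qM.ker := fun x hx => by
    rw [MonoidHom.mem_ker]
    have hxτ : τ x = 1 := by
      rw [← e0, MonoidHom.comp_apply, MonoidHom.mem_ker.1 hx, map_one]
    have hmem : qM x ∈ σ.ker := by
      rw [MonoidHom.mem_ker, ← MonoidHom.comp_apply, eM, hxτ]
    have ho3 : orderOf (qM x) ∣ 3 := (orderOf_map_dvd qM x).trans (by
      rw [← hk3, ← Subgroup.orderOf_mk x hx]
      exact orderOf_dvd_natCard _)
    have hok : orderOf (qM x) ∣ Nat.card σ.ker := by
      rw [← Subgroup.orderOf_mk (qM x) hmem]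
      exact orderOf_dvd_natCard _
    rcases (Nat.dvd_prime Nat.prime_three).1 ho3 with h | h
    · exact orderOf_eq_one_iff.1 h
    · exact absurd (dvd_trans (dvd_of_eq h.symm) hok) h3
  refine ⟨q0.liftOfSurjective hq0 ⟨qM, hle⟩, ?_, ?_⟩
  · intro m
    obtain ⟨x, rfl⟩ := hqM m
    exact ⟨q0 x, MonoidHom.liftOfRightInverse_comp_apply _ _ _ _ _⟩
  · refine MonoidHom.ext fun m => ?_
    obtain ⟨x, rfl⟩ := hq0 m
    rw [MonoidHom.comp_apply, MonoidHom.liftOfRightInverse_comp_apply, ← MonoidHom.comp_apply, eM,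
      ← e0, MonoidHom.comp_apply]

end

end CfsgLib.ONanRec
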