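import Cfsg.Agent.MultPSLThreeFour.Monomial

/-!
# The involution centraliser of O'Nan's group as a monomial group

`Phi` realises the graph-field automorphism on the 280 point monomial representation of the cover
`4^2.L₃(4)`; it multiplies voltages by three. `CT` is generated by the table and `Phi`, and `CM` is
its quotient by the scalars `(2a, 0)`: the group `4.L₃(4).2`.
-/

set_option autoImplicit false
set_option linter.unusedSectionVars false
set_option linter.style.longLine false
set_option linter.style.haveILetI false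
set_option maxRecDepth 4000

namespace CfsgLib.ONanRec

open CfsgLib.MultPSLThreeFour

/-- The table of `Phi`. -/
def phiTbl : ℕ :=
  0x6000057070600180103001f0600004a0502001d0601002e02010054010400590307001b0507002b0207006002030048060400290004003c0703003a00040040060400620004003e040600bc03010076050300ed000400ef04060075050000a7030400b2000400af000600240006002a07020049040000f401010047050000f2020000d30406008a0001009f040000fa07050092010000f80707004501020042000401020006005f01070103000600610506005b0407007b0006005d020600cb0002009100040065000200a9060000a20407008d070200be000200a40507006903000067040200ca0006000f010300cd000600c1000600160004008e00060017000400ac0006001e010100d4050500d5020000f70504008b01010028050000c50702002d040000c6050700dc07060095020600e8040200de010300c40202006b060600a5040000ce010000d0050700c901050094010700b6000600db0102002207070027030200e205050074040601050403006d000600520401006e0506004f04020080050300c20006004d0402008504000087070400ff0006005600060058000400fe0006005305070093000400d7030600970400008f000200e5010300a301000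100040000a0060600c7000200e1050700a8060000e407030073040000a6000500f5030200960101001c0404009a040400980404009c0702001a0404009b070600ab0702009e030600cc050100c3010300ad030100f3000200e70505008c040000aa000400d9040300e301010090010400d2040600f6000600330407006f040000b304050070040200b40503007c07060082030600830306007e040200b701030071070600810501007201070084040300ea010200140102003707070030070700120705010404060101010100bd030700a10105007d0507007f0401008604030088040500b9040700bb00060035020200c80006003b010300e000060039070000df0006003f000400e60006003d0400006306040107000600ec0203010d000600ee00020008000600e900000041010600eb0000004405040110000600b006000117000600b10400005502050111000600ae000600ba0000002300020004010600b800000026000600b5000000210400004b06000114030200fb0207010c050500f904000046030300f10000005a0002000c050200f00000005c000401080006006600040106000600640004010a0006006a03070109000600680400003805020079000000110006006c0000000e000600890000001500020002030300780000001306050112030200cf0400002c0103010e000600fc0604010b050500d1030300bf0000004e04000025000600fd00000051050200c00000004c0002000a05070115000600d6010201130505009d0703010f030200990400001903060116000600d8000600da000000320502007a0000002f030300770000003604000010000600dd0000003400020006000200430004000700020020000400030002005e0004000b0002000d000400010002005000040009000200310004000500000000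

/-- An entry of the table of `Phi`. -/
def phiEnt (p : ℕ) : ℕ := (phiTbl >>> (32 * p)) % 4294967296

/-- `Phi` on an encoded point. -/
def phiStep (s : ℕ) : ℕ :=
  phiEnt (s % 65536) % 65536 + (phiEnt (s % 65536) / 65536 + 3 * (s / 65536)) % 8 * 65536 +
    (phiEnt (s % 65536) / 16777216 + 3 * (s / 16777216)) % 8 * 16777216

theorem nbeq_ne {a b : ℕ} (h : a ≠ b) : Nat.beq a b = false := by
  cases e : Nat.beq a b
  · rfl
  · exact absurd (Nat.eq_of_beq_eq_true e) h

/-- A letter (`24` is `Phi`) on an encoded point. -/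
def stepC (g s : ℕ) : ℕ := bif Nat.beq g 24 then phiStep s else step g s

/-- A word on an encoded point, rightmost letter first. -/
def runC (w : List ℕ) (s : ℕ) : ℕ := w.foldr stepC s

/-- A word is trivial modulo the scalars `(2a, 0)`. -/
def chkK (w : List ℕ) : Bool :=
  Nat.beq (w.count 24 % 2) 0 && Nat.beq (runC w 0 % 65536) 0 &&
    Nat.beq (runC w 0 / 65536 % 2) 0 && Nat.beq (runC w 0 / 16777216) 0 &&
    allBelow 280 fun p => Nat.beq (runC w p) (runC w 0 + p)

/-- `Phi` on a point. -/
def phiAct (x : Pt) : Pt :=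
  (⟨phiEnt x.1.val % 65536 % 280, Nat.mod_lt _ (by norm_num)⟩,
    ((phiEnt x.1.val / 65536 : ℕ) + 3 * x.2.1, (phiEnt x.1.val / 16777216 : ℕ) + 3 * x.2.2))

theorem phi_lt : (allBelow 280 fun p => Nat.blt (phiEnt p % 65536) 280) = true := by
  decide +kernel

theorem phi_sq : (allBelow 280 fun p => Nat.beq (phiStep (phiStep p)) p) = true := by
  decide +kernel

theorem phiStep_enc (x : Pt) : phiStep (enc x) = enc (phiAct x) := by
  have hlt : phiEnt x.1.val % 65536 < 280 :=
    Nat.le_of_ble_eq_true (of_allBelow phi_lt x.1.val x.1.isLt)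
  have h1 := enc_mod x
  obtain ⟨h2, h3⟩ := enc_div x
  have ha := ZMod.val_lt x.2.1
  rw [phiStep, h1, h3]
  simp only [phiAct, enc, Nat.mod_eq_of_lt hlt, ZMod.val_add, ZMod.val_mul, ZMod.val_natCast,
    show (3 : ZMod 8).val = 3 from rfl]
  simp only [enc] at h2
  omega

theorem phiAct_tr (x : Pt) (t : Vlt) : phiAct (x.1, x.2 + t) =
    ((phiAct x).1, (phiAct x).2 + 3 • t) := by
  refine Prod.ext rfl (Prod.ext ?_ ?_) <;> simp [phiAct] <;> ring

theorem phiAct_phiAct (x : Pt) : phiAct (phiAct x) = x := by
  obtain ⟨p, t⟩ := x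
  have h0 : phiAct (phiAct (p, 0)) = (p, 0) := enc_injective (by
    rw [← phiStep_enc, ← phiStep_enc, enc_base]
    exact Nat.eq_of_beq_eq_true (of_allBelow phi_sq p.val p.isLt))
  have h1 := phiAct_tr (p, 0) t
  simp only [zero_add] at h1
  rw [h1, phiAct_tr]
  refine Prod.ext (show (phiAct (phiAct (p, 0))).1 = p from congrArg Prod.fst h0) ?_
  show (phiAct (phiAct (p, 0))).2 + _ = t
  rw [congrArg Prod.snd h0, zero_add]
  have key : ∀ a : ZMod 8, 3 • (3 • a) = a := by decide
  exact Prod.ext (key _) (key _)

/-- `Phi` as a permutation. -/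
def Phi : Equiv.Perm Pt := Function.Involutive.toPerm phiAct phiAct_phiAct

theorem Phi_conj_tr (t : Vlt) : Phi * tr t * Phi⁻¹ = tr (3 • t) := by
  rw [mul_inv_eq_iff_eq_mul]
  exact Equiv.ext fun x => (phiAct_tr x t).trans rfl

/-- A letter as a permutation. -/
def pC (g : Fin 25) : Equiv.Perm Pt :=
  if h : g.val < 24 then gperm ⟨g.val, h⟩ else Phi

/-- The extended monomial group. -/
def CT : Subgroup (Equiv.Perm Pt) := Subgroup.closure (Set.range pC)

/-- The scalars `(2a, 0)`. -/
def KS : Subgroup (Equiv.Perm Pt) where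
  carrier := {f | ∃ a : ZMod 4, f = tr (dbl (a, 0))}
  one_mem' := ⟨0, Equiv.ext fun x => by
    rw [show ((0 : ZMod 4), (0 : ZMod 4)) = 0 from rfl, map_zero]; simp [tr]⟩
  mul_mem' := by
    rintro _ _ ⟨a, rfl⟩ ⟨b, rfl⟩
    exact ⟨a + b, by rw [← tr_add, ← map_add, Prod.mk_add_mk, add_zero]⟩
  inv_mem' := by
    rintro _ ⟨a, rfl⟩
    refine ⟨-a, inv_eq_of_mul_eq_one_right (Equiv.ext fun x => ?_)⟩
    rw [← tr_add, ← map_add, Prod.mk_add_mk, add_zero, add_neg_cancel,
      show ((0 : ZMod 4), (0 : ZMod 4)) = 0 from rfl, map_zero]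
    simp [tr]

theorem CT_normalizes : CT ≤ Subgroup.normalizer (KS : Set (Equiv.Perm Pt)) := by
  have hmon : ∀ (g : Fin 24) (t : Vlt), gperm g * tr t * (gperm g)⁻¹ = tr t := fun g t => by
    rw [mul_inv_eq_iff_eq_mul]
    exact (Subgroup.mem_centralizer_iff.1 (gen g).2 _ ⟨t, rfl⟩).symm
  rw [CT, Subgroup.closure_le]
  rintro _ ⟨g, rfl⟩
  have hkey : ∀ f ∈ KS, pC g * f * (pC g)⁻¹ ∈ KS := by
    rintro _ ⟨a, rfl⟩
    by_cases h : g.val < 24
    · rw [pC, dif_pos h, hmon]; exact ⟨a, rfl⟩
    · rw [pC, dif_neg h, Phi_conj_tr, ← map_nsmul]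
      exact ⟨3 • a, by rw [Prod.smul_mk, smul_zero]⟩
  haveI : Finite KS := Subtype.finite
  exact Subgroup.mem_normalizer_fintype hkey

/-- The scalars inside the extended group. -/
def KC : Subgroup CT := KS.subgroupOf CT

instance : KC.Normal := Subgroup.normal_subgroupOf_of_le_normalizer CT_normalizes

/-- The group `4.L₃(4).2`. -/
abbrev CM : Type := CT ⧸ KC

/-- A letter in `CM`. -/
def ltr (g : Fin 25) : CM := QuotientGroup.mk ⟨pC g, Subgroup.subset_closure ⟨g, rfl⟩⟩

/-- The value of a word in `CM`. -/
def evC (w : List (Fin 25)) : CM := (w.map ltr).prod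

theorem gperm_apply (g : Fin 24) (x : Pt) : gperm g x = act g x := rfl

theorem Phi_apply (x : Pt) : Phi x = phiAct x := rfl

theorem pC_lt {g : Fin 25} (h : g.val < 24) : pC g = gperm ⟨g.val, h⟩ := dif_pos h

theorem pC_ge {g : Fin 25} (h : ¬ g.val < 24) : pC g = Phi := dif_neg h

theorem stepC_lt {g : ℕ} (h : g ≠ 24) (s : ℕ) : stepC g s = step g s := by
  unfold stepC
  rw [nbeq_ne h, cond_false]

theorem stepC_phi (s : ℕ) : stepC 24 s = phiStep s := by
  unfold stepC
  rw [Nat.beq_refl, cond_true]

theorem step_enc' (g : Fin 24) (x : Pt) (v : ℕ) (h : g.val = v) :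
    step v (enc x) = enc (act g x) := by
  subst h; exact step_enc g x

theorem stepC_ge (g : Fin 25) (h : ¬ g.val < 24) (x : Pt) :
    stepC g.val (enc x) = phiStep (enc x) := by
  rw [show g.val = 24 by omega]
  exact stepC_phi _

theorem enc_pC_ge (g : Fin 25) (h : ¬ g.val < 24) (x : Pt) : enc (pC g x) = enc (phiAct x) := by
  rw [pC_ge h, Phi_apply]

theorem enc_pC_lt (g : Fin 25) (h : g.val < 24) (x : Pt) :
    enc (pC g x) = enc (act ⟨g.val, h⟩ x) := by
  rw [pC_lt h, gperm_apply]

theorem stepC_enc (g : Fin 25) (x : Pt) : stepC g.val (enc x) = enc (pC g x) := by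
  by_cases h : g.val < 24
  · exact (stepC_lt (Nat.ne_of_lt h) _).trans
      ((step_enc' ⟨g.val, h⟩ x g.val rfl).trans (enc_pC_lt g h x).symm)
  · exact (stepC_ge g h x).trans ((phiStep_enc x).trans (enc_pC_ge g h x).symm)

theorem runC_nil (s : ℕ) : runC [] s = s := List.foldr_nil

theorem runC_cons (g : ℕ) (w : List ℕ) (s : ℕ) : runC (g :: w) s = stepC g (runC w s) :=
  List.foldr_cons ..

theorem runC_enc (w : List (Fin 25)) (x : Pt) :
    runC (w.map Fin.val) (enc x) = enc ((w.map pC).prod x) := by
  induction w with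
  | nil => exact (runC_nil _).trans (by rw [List.map_nil, List.prod_nil, Equiv.Perm.one_apply])
  | cons g w ih =>
    have e1 : runC ((g :: w).map Fin.val) (enc x) = stepC g.val (runC (w.map Fin.val) (enc x)) := by
      rw [List.map_cons]
      exact runC_cons _ _ _
    rw [e1, ih, List.map_cons, List.prod_cons, Equiv.Perm.mul_apply]
    exact stepC_enc g _

theorem pC_shift (g : Fin 25) (x : Pt) (t : Vlt) :
    pC g (x.1, x.2 + t) = ((pC g x).1, (pC g x).2 + (bif Nat.beq g.val 24 then 3 • t else t)) := by
  by_cases h : g.val < 24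
  · rw [nbeq_ne (a := g.val) (b := 24) (by omega), cond_false, pC,
      dif_pos h]
    exact act_shift ⟨g.val, h⟩ x t
  · rw [show g.val = 24 by omega, show Nat.beq 24 24 = true from rfl, cond_true, pC, dif_neg h]
    exact phiAct_tr x t

theorem prod_shift (w : List (Fin 25)) (x : Pt) (t : Vlt) :
    (w.map pC).prod (x.1, x.2 + t) =
      (((w.map pC).prod x).1, ((w.map pC).prod x).2 + 3 ^ ((w.map Fin.val).count 24) • t) := by
  induction w with
  | nil => simp
  | cons g w ih =>
    rw [List.map_cons, List.map_cons, List.prod_cons, Equiv.Perm.mul_apply, ih, pC_shift,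
      Equiv.Perm.mul_apply]
    refine Prod.ext rfl ?_
    by_cases h : g.val = 24
    · rw [h, List.count_cons_self, show Nat.beq 24 24 = true from rfl, cond_true, pow_succ,
        mul_comm, mul_nsmul']
    · rw [List.count_cons_of_ne h, nbeq_ne h,
        cond_false]

/-- A checked word is trivial in `CM`. -/
theorem evC_eq_one (w : List (Fin 25)) (h : chkK (w.map Fin.val) = true) : evC w = 1 := by
  simp only [chkK, Bool.and_eq_true] at h
  obtain ⟨⟨⟨⟨hev, h0⟩, ha⟩, hb⟩, hall⟩ := h
  set f := (w.map pC).prod with hf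
  set v := f (0, 0) with hv
  have hr : runC (w.map Fin.val) 0 = enc v := by rw [hv, hf, ← runC_enc]; rfl
  rw [hr] at h0 ha hb
  obtain ⟨e1, e2⟩ := enc_div v
  have hv0 : v.1.val = 0 := by rw [← enc_mod]; exact Nat.eq_of_beq_eq_true h0
  have ha' := Nat.eq_of_beq_eq_true ha
  have hb' := Nat.eq_of_beq_eq_true hb
  have hpow : ∀ t : Vlt, 3 ^ ((w.map Fin.val).count 24) • t = t := by
    obtain ⟨m, hm⟩ := Nat.dvd_of_mod_eq_zero (Nat.eq_of_beq_eq_true hev)
    intro t
    rw [hm, pow_mul]
    have k9 : ∀ a : ZMod 8, (9 : ℕ) • a = a := by decide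
    clear hm
    induction m with
    | zero => simp
    | succ m ih =>
      rw [pow_succ, mul_nsmul', show ((3 : ℕ) ^ 2) • t = t from Prod.ext (k9 _) (k9 _), ih]
  have key : ∀ a : ZMod 8, a.val % 2 = 0 → ((2 * ((a.val / 2 : ℕ) : ZMod 4).val : ℕ) : ZMod 8) = a := by
    decide
  have hw : f = tr (dbl (((v.2.1.val / 2 : ℕ) : ZMod 4), 0)) := by
    refine Equiv.ext fun x => ?_
    obtain ⟨p, t⟩ := x
    have hp : f (p, 0) = (p, v.2) := enc_injective (by
      rw [hf, ← runC_enc, enc_base, Nat.eq_of_beq_eq_true (of_allBelow hall p.val p.isLt), hr]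
      simp only [enc]
      omega)
    have := prod_shift w (p, 0) t
    simp only [zero_add] at this
    rw [hf, this, ← hf, hp, hpow]
    refine Prod.ext rfl ?_
    show v.2 + t = t + _
    rw [add_comm]
    congr 1
    refine Prod.ext (key _ (by omega)).symm ?_
    have : v.2.2 = 0 := ZMod.val_injective 8 (by rw [ZMod.val_zero]; omega)
    rw [this]
    rfl
  let L : List CT := w.map fun g => ⟨pC g, Subgroup.subset_closure ⟨g, rfl⟩⟩
  have e : evC w = QuotientGroup.mk' KC L.prod := by
    rw [map_list_prod, evC, List.map_map]; rfl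
  rw [e, QuotientGroup.mk'_apply, QuotientGroup.eq_one_iff, KC, Subgroup.mem_subgroupOf]
  refine ⟨((v.2.1.val / 2 : ℕ) : ZMod 4), ?_⟩
  rw [← hw, hf, Subgroup.val_list_prod, List.map_map]
  rfl

/-- The central involution. -/
def tM : CM :=
  evC [1, 7, 13, 19, 7, 0, 19, 12, 6, 0, 18, 12, 1, 7, 13, 19, 7, 0, 19, 12, 6, 0, 18, 12]

/-- A non-central involution of the perfect subgroup. -/
def uM : CM := ltr 2

/-- The relators of the O'Nan group inside `⟨a, f, c, d, g⟩`. -/
structure RFrame {K : Type*} [Group K] (a f c d g : K) : Prop where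
  aa : a * a = 1
  ff : f * f = 1
  cc : c * c = 1
  dd : d * d = 1
  af : a * f = f * a
  ac : a * c = c * a
  ad : a * d = d * a
  fc : f * c = c * f
  fd : f * d = d * f
  gg : g ^ 2 = a * f
  cd : (c * d) ^ 4 = a * f
  cdg : c * (d * g * d * g) = d * g * d * g * c
  dcg : d * (c * g * c * g) = c * g * c * g * d

/-- The relations of `e` with `a, f, c, d, g`. -/
structure EFrame {K : Type*} [Group K] (a f c d g e : K) : Prop where
  ee : e * e = 1
  ea : e * a = a * e
  ec : e * c = c * e
  ef : (e * f) ^ 3 = 1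
  ed : (d * e) ^ 3 = 1
  rel : g * e * (d⁻¹ * g * d) * (e⁻¹ * g * e) * (d⁻¹ * g * d) = 1
  em : e * (g * c * g⁻¹) = g * c * g⁻¹ * e
  mU : g * c * g⁻¹ * c * (g * c * g⁻¹) = a * c

/-- The relations of `b` with `a, f, c, d, g`. -/
structure BFrame {K : Type*} [Group K] (a f c d g b : K) : Prop where
  bb : b * b = 1
  bf : b * f = f * b
  bd : b * d = d * b
  ba : (a * b) ^ 3 = 1
  bc : (b * c) ^ 3 = 1
  rel : g * b * (c⁻¹ * g * c) * (b⁻¹ * g * b) * (c⁻¹ * g * c) = 1
  five : (b * c * d * g) ^ 5 = 1
  nm : (b * (a * c) * b * (g * c * g⁻¹)) ^ 3 = 1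

/-- The centraliser of the four group `⟨tM, uM⟩`. -/
def RR : Subgroup CM := Subgroup.centralizer {tM, uM}

theorem tM_sq : tM * tM = 1 := by
  have h : evC ([1, 7, 13, 19, 7, 0, 19, 12, 6, 0, 18, 12, 1, 7, 13, 19, 7, 0, 19, 12, 6, 0, 18, 12]
      ++ [1, 7, 13, 19, 7, 0, 19, 12, 6, 0, 18, 12, 1, 7, 13, 19, 7, 0, 19, 12, 6, 0, 18, 12]) = 1 :=
    evC_eq_one _ (by decide +kernel)
  rw [evC, List.map_append, List.prod_append] at h
  exact h

theorem uM_sq : uM * uM = 1 := by
  have h : evC [2, 2] = 1 := evC_eq_one _ (by decide +kernel)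
  simpa [evC, uM] using h

end CfsgLib.ONanRec
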