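import Cfsg.Agent.AutPSL.GraphField
import Cfsg.Agent.MultPSLThreeFour.Cover
import Cfsg.Agent.Forms.SLThreeInvolutions

/-!
# Involutory automorphisms of `L₃(4)` that are not inner

Up to conjugation inside `L₃(4)` they are a field, graph or graph-field automorphism followed by a
diagonal matrix `diag(c, 1, 1)`; the centraliser of the graph automorphism has no element of order four.
-/

set_option autoImplicit false
set_option linter.unusedSectionVars false
set_option linter.style.haveILetI false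

namespace CfsgLib.ONanRec

open Matrix CfsgLib.AutPSL CfsgLib.MultPSLThreeFour
open scoped MatrixGroups

variable {F : Type} [Field F] [Fintype F] [DecidableEq F] {w : F}

/-- The automorphism group of `L₃(4)`. -/
abbrev AutL (F : Type) [Field F] : Type :=
  MulAut (Matrix.ProjectiveSpecialLinearGroup (Fin 3) F)

/-- The matrix `diag(c, 1, 1)`. -/
noncomputable def dlt (c : Fˣ) : GL (Fin 3) F :=
  Matrix.GeneralLinearGroup.mkOfDetNeZero (Matrix.diagonal ![(c : F), 1, 1])
    (by simp [Matrix.det_diagonal, Fin.prod_univ_three])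

theorem dlt_coe (c : Fˣ) : (dlt c : Matrix (Fin 3) (Fin 3) F) = Matrix.diagonal ![(c : F), 1, 1] := rfl

theorem dlt_mul (c d : Fˣ) : dlt (c * d) = dlt c * dlt d := by
  apply Units.ext
  rw [Units.val_mul, dlt_coe, dlt_coe, dlt_coe, Matrix.diagonal_mul_diagonal]
  congr 1; funext i; fin_cases i <;> simp

theorem dlt_one : dlt (1 : Fˣ) = 1 := by
  apply Units.ext
  rw [dlt_coe]
  ext i j
  fin_cases i <;> fin_cases j <;> simp [Matrix.diagonal, Matrix.one_apply]

theorem dlt_inv (c : Fˣ) : dlt c⁻¹ = (dlt c)⁻¹ :=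
  eq_inv_of_mul_eq_one_left (by rw [← dlt_mul, inv_mul_cancel, dlt_one])

theorem mapGL_dlt (σ : F ≃+* F) (c : Fˣ) : mapGL σ (dlt c) = dlt (Units.map σ.toRingHom.toMonoidHom c) := by
  apply Units.ext
  ext i j
  simp only [Matrix.GeneralLinearGroup.map_apply, dlt_coe]
  fin_cases i <;> fin_cases j <;> simp [Matrix.diagonal]

theorem invTransGL_dlt (c : Fˣ) : invTransGL (dlt c) = dlt c⁻¹ := by
  apply Units.ext
  show ((dlt c)⁻¹ : GL (Fin 3) F).1.transpose = _
  rw [← dlt_inv, dlt_coe, Matrix.diagonal_transpose]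

theorem invTransGL_inv (g : GL (Fin 3) F) : invTransGL g⁻¹ = (invTransGL g)⁻¹ := by
  apply Units.ext
  rfl

section

variable (hw : Four w)
include hw

theorem four_char : CharP F 2 :=
  CharTwo.of_one_ne_zero_of_two_eq_zero one_ne_zero (by linear_combination hw.two)

theorem units_cube (c : Fˣ) : c ^ 3 = 1 := by
  have h3 : w * (w * w) = 1 := by linear_combination (w + 1) * hw.sq + w * hw.two
  apply Units.ext
  rcases hw.all (c : F) with h | h | h | h
  · exact absurd h c.ne_zero
  · simp [h]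
  · simp [h, pow_succ, mul_assoc, h3]
  · have : (1 + w) = w * w := hw.sq.symm
    rw [Units.val_pow_eq_pow_val, h, this, Units.val_one]
    linear_combination (w * (w * w) + 1) * h3

theorem field_sq {σ : F ≃+* F} (hσ : σ ≠ 1) : σ w = 1 + w ∧ ∀ a, σ a = a * a := by
  have hw' : σ w = 1 + w := by
    rcases hw.all (σ w) with h | h | h | h
    · exact absurd (σ.injective (h.trans (map_zero σ).symm)) hw.ne0
    · exact absurd (σ.injective (h.trans (map_one σ).symm)) hw.ne1
    · refine absurd (RingEquiv.ext fun a => ?_) hσ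
      rcases hw.all a with rfl | rfl | rfl | rfl <;> simp [h]
    · exact h
  refine ⟨hw', fun a => ?_⟩
  rcases hw.all a with rfl | rfl | rfl | rfl
  · simp
  · simp
  · rw [hw', hw.sq]
  · rw [map_add, map_one, hw']; linear_combination -hw.sq - w * hw.two

theorem field_order {σ : F ≃+* F} (hσ : σ ≠ 1) : orderOf σ = 2 := by
  refine orderOf_eq_prime (RingEquiv.ext fun a => ?_) hσ
  rw [pow_two]
  show σ (σ a) = a
  have h := (field_sq hw hσ).1
  have h' : σ (1 + w) = w := by rw [map_add, map_one, h]; linear_combination hw.two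
  rcases hw.all a with e | e | e | e <;> subst e
  · simp
  · simp
  · rw [h, h']
  · rw [h', h]

/-- Every invertible matrix is a matrix of determinant one times some `diag(c, 1, 1)`. -/
theorem exists_det_split (h : GL (Fin 3) F) :
    ∃ (s : SL(3, F)) (c : Fˣ), h = Matrix.SpecialLinearGroup.toGL s * dlt c := by
  refine ⟨⟨((h * (dlt (Matrix.GeneralLinearGroup.det h))⁻¹ : GL (Fin 3) F) : Matrix (Fin 3) (Fin 3) F),
    ?_⟩, Matrix.GeneralLinearGroup.det h, ?_⟩
  · rw [← Matrix.GeneralLinearGroup.val_det_apply, map_mul, map_inv]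
    have : Matrix.GeneralLinearGroup.det (dlt (Matrix.GeneralLinearGroup.det h)) =
        Matrix.GeneralLinearGroup.det h := Units.ext (by
      rw [Matrix.GeneralLinearGroup.val_det_apply, dlt_coe, Matrix.det_diagonal, Fin.prod_univ_three]
      simp)
    rw [this, mul_inv_cancel, Units.val_one]
  · rw [eq_comm, ← eq_mul_inv_iff_mul_eq]
    exact Units.ext rfl

/-- An invertible symmetric matrix is congruent to the identity. -/
theorem exists_eq_mul_transpose (g : GL (Fin 3) F)
    (hg : (g : Matrix (Fin 3) (Fin 3) F).transpose = (g : Matrix (Fin 3) (Fin 3) F)) :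
    ∃ h : GL (Fin 3) F, (g : Matrix (Fin 3) (Fin 3) F) =
      (h : Matrix (Fin 3) (Fin 3) F) * (h : Matrix (Fin 3) (Fin 3) F).transpose := by
  haveI := four_char hw
  set A : Matrix (Fin 3) (Fin 3) F := (g : Matrix (Fin 3) (Fin 3) F)
  let B : (Fin 3 → F) → (Fin 3 → F) → F := fun x y => x ⬝ᵥ A *ᵥ y
  have hB : ∀ x y, B x y = B y x := fun x y => by
    show x ⬝ᵥ A *ᵥ y = y ⬝ᵥ A *ᵥ x
    rw [Matrix.dotProduct_mulVec, ← Matrix.mulVec_transpose, hg, dotProduct_comm]
  have hq : ∀ x : Fin 3 → F, B x x = A 0 0 * x 0 * x 0 + A 1 1 * x 1 * x 1 + A 2 2 * x 2 * x 2 := by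
    intro x
    have h01 : A 1 0 = A 0 1 := congrFun (congrFun hg 0) 1
    have h02 : A 2 0 = A 0 2 := congrFun (congrFun hg 0) 2
    have h12 : A 2 1 = A 1 2 := congrFun (congrFun hg 1) 2
    simp only [B, Matrix.mulVec, dotProduct, Fin.sum_univ_three, h01, h02, h12]
    linear_combination (x 0 * A 0 1 * x 1 + x 0 * A 0 2 * x 2 + x 1 * A 1 2 * x 2) * hw.two
  have hroot : ∀ a : F, ∃ b, b * b = a := fun a => by
    rcases hw.all a with h | h | h | h
    · exact ⟨0, by simp [h]⟩
    · exact ⟨1, by simp [h]⟩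
    · exact ⟨1 + w, by rw [h]; linear_combination hw.sq + (1 + w) * hw.two⟩
    · exact ⟨w, by rw [h, hw.sq]⟩
  choose r hr using hroot
  set s : Fin 3 → F := fun i => r (A i i)
  have hqs : ∀ x, B x x = (s ⬝ᵥ x) * (s ⬝ᵥ x) := fun x => by
    rw [hq, dotProduct, Fin.sum_univ_three, ← hr (A 0 0), ← hr (A 1 1), ← hr (A 2 2)]
    linear_combination -(s 0 * x 0 * s 1 * x 1 + s 0 * x 0 * s 2 * x 2 + s 1 * x 1 * s 2 * x 2) * hw.two
  have hdet : IsUnit A.det := g.det.isUnit
  set a : Fin 3 → F := A⁻¹ *ᵥ s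
  have hAa : A *ᵥ a = s := by
    rw [Matrix.mulVec_mulVec, Matrix.mul_nonsing_inv _ hdet, Matrix.one_mulVec]
  have hBa : ∀ x, B x a = s ⬝ᵥ x := fun x => by
    show x ⬝ᵥ A *ᵥ a = _
    rw [hAa, dotProduct_comm]
  have hnd : ∀ x, (∀ y, B x y = 0) → x = 0 := fun x hx => by
    have : A *ᵥ x = 0 := funext fun i => by
      have h := hx (Pi.single i 1)
      rw [hB] at h
      simpa [B] using h
    rw [← Matrix.one_mulVec x, ← Matrix.nonsing_inv_mul _ hdet, ← Matrix.mulVec_mulVec, this,
      Matrix.mulVec_zero]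
  let φ : (Fin 3 → F) →ₗ[F] F :=
    { toFun := fun x => s ⬝ᵥ x
      map_add' := dotProduct_add s
      map_smul' := fun c x => by simp }
  have hrk : 2 ≤ Module.finrank F (LinearMap.ker φ) := by
    have h1 := LinearMap.finrank_range_add_finrank_ker φ
    have h2 : Module.finrank F (LinearMap.range φ) ≤ 1 :=
      (Submodule.finrank_le _).trans_eq (Module.finrank_self F)
    rw [Module.finrank_fin_fun] at h1
    omega
  -- `s ⬝ᵥ a = 1`
  have ha0 : s ⬝ᵥ a = 0 ∨ s ⬝ᵥ a = 1 := by
    have h := hBa a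
    rw [hqs] at h
    rcases eq_or_ne (s ⬝ᵥ a) 0 with e | e
    · exact Or.inl e
    · exact Or.inr (mul_left_cancel₀ e (h.trans (mul_one _).symm))
  have key : ∀ e, s ⬝ᵥ e = 0 → (∀ f, s ⬝ᵥ f = 0 → B e f = 0) →
      ∃ l : F, e = l • a := by
    intro e he hall
    by_cases hs0 : s = 0
    · exact ⟨0, by rw [zero_smul]; exact hnd e fun y => hall y (by simp [hs0])⟩
    obtain ⟨v, hv⟩ : ∃ v, s ⬝ᵥ v = 1 := by
      obtain ⟨i, hi⟩ := Function.ne_iff.1 hs0
      exact ⟨Pi.single i (s i)⁻¹, by simpa using mul_inv_cancel₀ hi⟩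
    refine ⟨B e v, sub_eq_zero.1 (hnd _ fun y => ?_)⟩
    have h1 := hall (y - (s ⬝ᵥ y) • v) (by rw [dotProduct_sub, dotProduct_smul, hv]; simp)
    have e1 : B e (y - (s ⬝ᵥ y) • v) = B e y - (s ⬝ᵥ y) * B e v := by
      simp [B, Matrix.mulVec_sub, Matrix.mulVec_smul]
    have e2 : B (e - B e v • a) y = B e y - B e v * B a y := by
      simp [B]
    rw [e2, hB a y, hBa, ← h1, e1]
    ring
  obtain ⟨e, he, he0⟩ : ∃ e, s ⬝ᵥ e = 0 ∧ ∀ l : F, e ≠ l • a := by
    by_contra hno
    push Not at hno
    have : LinearMap.ker φ ≤ Submodule.span F {a} := fun x hx => by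
      obtain ⟨l, rfl⟩ := hno x hx
      exact Submodule.smul_mem _ _ (Submodule.mem_span_singleton_self a)
    have h1 := Submodule.finrank_mono this
    have h2 : Module.finrank F (Submodule.span F {a}) ≤ 1 :=
      (finrank_span_le_card ({a} : Set (Fin 3 → F))).trans (by simp)
    omega
  obtain ⟨f, hf, hef⟩ : ∃ f, s ⬝ᵥ f = 0 ∧ B e f = 1 := by
    obtain ⟨f, hf, hne⟩ : ∃ f, s ⬝ᵥ f = 0 ∧ B e f ≠ 0 := by
      by_contra hno
      push Not at hno
      obtain ⟨l, hl⟩ := key e he hno
      exact he0 l hl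
    refine ⟨(B e f)⁻¹ • f, by simp [hf], ?_⟩
    simp [B, Matrix.mulVec_smul]
    exact inv_mul_cancel₀ hne
  have haa : B a a = 1 := by
    rcases ha0 with h | h
    · -- `a` would be isotropic and orthogonal to `e` and `f`
      exfalso
      have hea : B e a = 0 := (hBa e).trans he
      have hfa : B f a = 0 := (hBa f).trans hf
      have hli : ∀ x y z : F, x • a + y • e + z • f = 0 → y = 0 ∧ z = 0 := by
        intro x y z hxyz
        have h1 := congrArg (fun v => B e v) hxyz
        have h2 := congrArg (fun v => B f v) hxyz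
        simp [B, Matrix.mulVec_add, Matrix.mulVec_smul] at h1 h2
        have hee : B e e = 0 := by rw [hqs, he, mul_zero]
        have hff : B f f = 0 := by rw [hqs, hf, mul_zero]
        have hfe : B f e = 1 := (hB f e).trans hef
        simp only [B] at hea hee hef hfa hfe hff
        rw [hea, hee, hef] at h1
        rw [hfa, hfe, hff] at h2
        simp at h1 h2
        exact ⟨h2, h1⟩
      have hind : LinearIndependent F ![a, e, f] := by
        rw [Fintype.linearIndependent_iff]
        intro c hc i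
        simp [Fin.sum_univ_three] at hc
        obtain ⟨h1, h2⟩ := hli _ _ _ hc
        have ha1 : a ≠ 0 := fun h0 => by
          have hs0 : s = 0 := by rw [← hAa, h0, Matrix.mulVec_zero]
          have hd : A.det = 0 := by
            rw [Matrix.det_fin_three]
            have hz : ∀ i, A i i = 0 := fun i => by
              rw [← hr (A i i)]
              have := congrFun hs0 i
              simp only [s, Pi.zero_apply] at this
              rw [this, mul_zero]
            have h01 : A 1 0 = A 0 1 := congrFun (congrFun hg 0) 1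
            have h02 : A 2 0 = A 0 2 := congrFun (congrFun hg 0) 2
            have h12 : A 2 1 = A 1 2 := congrFun (congrFun hg 1) 2
            rw [hz 0, hz 1, hz 2, h01, h02, h12]
            linear_combination A 0 1 * A 1 2 * A 0 2 * hw.two
          exact hdet.ne_zero hd
        have h3 : c 0 = 0 := by
          rw [h1, h2, zero_smul, zero_smul, add_zero, add_zero] at hc
          exact (smul_eq_zero.1 hc).resolve_right ha1
        fin_cases i <;> assumption
      have hspan := hind.span_eq_top_of_card_eq_finrank (by simp)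
      obtain ⟨x, hx⟩ : ∃ x, s ⬝ᵥ x ≠ 0 := by
        by_contra hno
        push Not at hno
        have := hnd a fun y => (hB a y).trans ((hBa y).trans (hno y))
        exact (hind.ne_zero 0) (by simpa using this)
      have hker : Submodule.span F (Set.range ![a, e, f]) ≤ LinearMap.ker φ := by
        rw [Submodule.span_le]
        rintro _ ⟨i, rfl⟩
        fin_cases i
        · exact h
        · exact he
        · exact hf
      rw [hspan] at hker
      exact hx (hker (Submodule.mem_top : x ∈ ⊤))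
    · exact (hBa a).trans h
  -- the orthonormal basis
  let Q : Matrix (Fin 3) (Fin 3) F := Matrix.of fun i j => (![a + e, a + f, a + e + f] : Fin 3 → Fin 3 → F) j i
  have hQ : Q.transpose * A * Q = 1 := by
    have hea : B e a = 0 := (hBa e).trans he
    have hfa : B f a = 0 := (hBa f).trans hf
    have hae : B a e = 0 := (hB a e).trans hea
    have haf : B a f = 0 := (hB a f).trans hfa
    have hee : B e e = 0 := by rw [hqs, he, mul_zero]
    have hff : B f f = 0 := by rw [hqs, hf, mul_zero]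
    have hfe : B f e = 1 := (hB f e).trans hef
    have hent : ∀ i j, (Q.transpose * A * Q) i j =
        B ((![a + e, a + f, a + e + f] : Fin 3 → Fin 3 → F) i)
          ((![a + e, a + f, a + e + f] : Fin 3 → Fin 3 → F) j) := by
      intro i j
      rw [Matrix.mul_assoc]
      rfl
    ext i j
    rw [hent]
    simp only [B] at haa hea hfa hae haf hee hff hfe hef
    fin_cases i <;> fin_cases j <;>
      simp [B, Matrix.mulVec_add, haa, hea, hfa, hae, haf, hee, hff, hfe, hef, Matrix.one_apply] <;>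
      linear_combination hw.two
  have hQd : Q.det ≠ 0 := by
    intro h0
    have := congrArg Matrix.det hQ
    simp [h0] at this
  have hQt : Q.transpose.det ≠ 0 := by rwa [Matrix.det_transpose]
  refine ⟨(Matrix.GeneralLinearGroup.mkOfDetNeZero Q.transpose hQt)⁻¹, ?_⟩
  rw [Matrix.coe_units_inv]
  change A = (Q.transpose)⁻¹ * ((Q.transpose)⁻¹).transpose
  have hu : IsUnit Q.det := isUnit_iff_ne_zero.2 hQd
  have hut : IsUnit Q.transpose.det := isUnit_iff_ne_zero.2 hQt
  rw [Matrix.transpose_nonsing_inv, Matrix.transpose_transpose]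
  calc A = (Q.transpose)⁻¹ * (Q.transpose * A * Q) * Q⁻¹ := by
        rw [Matrix.mul_assoc Q.transpose, ← Matrix.mul_assoc (Q.transpose)⁻¹,
          Matrix.nonsing_inv_mul _ hut, Matrix.one_mul, Matrix.mul_assoc, Matrix.mul_nonsing_inv _ hu,
          Matrix.mul_one]
    _ = _ := by rw [hQ, Matrix.mul_one]

theorem conj_split {φ : MulAut (Matrix.SpecialLinearGroup (Fin 3) F)} (h : GL (Fin 3) F) (τ : Fˣ → Fˣ)
    (hτ : ∀ c, φ * conjSL (dlt c) = conjSL (dlt (τ c)) * φ) (hφ : ∀ c d, τ (c * d) = τ c * τ d) :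
    ∃ (s : SL(3, F)) (c : Fˣ), toPSLAut (conjSL h * φ * (conjSL h)⁻¹) =
      MulAut.conj (QuotientGroup.mk s : Matrix.ProjectiveSpecialLinearGroup (Fin 3) F) *
        toPSLAut (conjSL (dlt (c * (τ c)⁻¹)) * φ) *
          (MulAut.conj (QuotientGroup.mk s : Matrix.ProjectiveSpecialLinearGroup (Fin 3) F))⁻¹ := by
  obtain ⟨s, c, rfl⟩ := exists_det_split hw h
  refine ⟨s, c, ?_⟩
  have e1 : τ c⁻¹ = (τ c)⁻¹ := by
    have h1 : τ 1 = 1 := left_eq_mul.1 ((congrArg τ (mul_one (1 : Fˣ))).symm.trans (hφ 1 1))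
    refine eq_inv_of_mul_eq_one_left ?_
    rw [← hφ, inv_mul_cancel, h1]
  have key : conjSL (dlt c) * φ * (conjSL (dlt c))⁻¹ = conjSL (dlt (c * (τ c)⁻¹)) * φ := by
    rw [← map_inv, ← dlt_inv, mul_assoc, hτ, ← mul_assoc, ← map_mul, ← dlt_mul, e1]
  rw [← toPSLAut_conj, ← conjSL_toGL, ← map_inv toPSLAut, ← map_mul, ← map_mul]
  congr 1
  rw [map_mul, ← key]
  group

/-- An involutory automorphism which is not inner, up to inner conjugation. -/
theorem outer_cases {α : AutL F} (hα : α * α = 1)
    (hout : ∀ g, α ≠ MulAut.conj g) :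
    ∃ (s : SL(3, F)) (c : Fˣ) (σ : F ≃+* F) (γ : MulAut (Matrix.SpecialLinearGroup (Fin 3) F)),
      ((σ ≠ 1 ∧ γ = 1) ∨ (σ = 1 ∧ γ = invTransSL) ∨ (σ ≠ 1 ∧ γ = invTransSL ∧ c = 1)) ∧
      α = MulAut.conj (QuotientGroup.mk s : Matrix.ProjectiveSpecialLinearGroup (Fin 3) F) *
        toPSLAut (conjSL (dlt c) * (fieldSL σ * γ)) *
          (MulAut.conj (QuotientGroup.mk s : Matrix.ProjectiveSpecialLinearGroup (Fin 3) F))⁻¹ := by
  haveI := four_char hw
  have : Fact (Nat.Prime 2) := ⟨Nat.prime_two⟩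
  obtain ⟨g, σ, γ, hγ, rfl⟩ := exists_form (by norm_num) α
  rcases hγ with rfl | rfl
  · rw [mul_one] at hα hout ⊢
    by_cases hσ : σ = 1
    · exfalso
      subst hσ
      rw [map_one, mul_one] at hα hout
      rw [← map_mul, ← map_one (toPSLAut (ι := Fin 3) (F := F)), (toPSLAut_injective 2).eq_iff,
        ← map_mul, conjSL_eq_one_iff] at hα
      obtain ⟨u, hu⟩ := hα
      have hd : Matrix.GeneralLinearGroup.det (g * g * g) = 1 := by
        rw [map_mul, map_mul, ← units_cube hw (Matrix.GeneralLinearGroup.det g)]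
        simp [pow_succ, mul_assoc]
      let s : SL(3, F) := ⟨((g * g * g : GL (Fin 3) F) : Matrix (Fin 3) (Fin 3) F), by
        rw [← Matrix.GeneralLinearGroup.val_det_apply, hd, Units.val_one]⟩
      refine hout (QuotientGroup.mk s) ?_
      rw [← toPSLAut_conj, ← conjSL_toGL]
      congr 1
      rw [show Matrix.SpecialLinearGroup.toGL s = g * g * g from Units.ext rfl, hu, map_mul,
        conjSL_scalar, one_mul]
    obtain ⟨h, e⟩ := isConj_field_of_pow_eq_one (by norm_num) (field_order hw hσ) (by norm_num) g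
      (by rw [pow_two]; exact hα)
    rw [e, ← map_inv, ← map_mul, ← map_mul]
    obtain ⟨s, c, hs⟩ := conj_split hw (φ := fieldSL σ) h (fun c => Units.map σ.toRingHom.toMonoidHom c)
      (fun c => by rw [fieldSL_mul_conjSL, mapGL_dlt]) (fun c d => map_mul _ c d)
    exact ⟨s, _, σ, 1, Or.inl ⟨hσ, rfl⟩, by rw [mul_one]; exact hs⟩
  · by_cases hσ : σ = 1
    · subst hσ
      rw [map_one, mul_one] at hα hout ⊢
      have hα' := hα
      rw [← map_mul, ← map_one (toPSLAut (ι := Fin 3) (F := F)), (toPSLAut_injective 2).eq_iff,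
        mul_assoc, ← mul_assoc invTransSL, invTransSL_mul_conjSL, mul_assoc _ invTransSL,
        invTransSL_mul_self, mul_one, ← map_mul, conjSL_eq_one_iff] at hα'
      obtain ⟨u, hu⟩ := hα'
      have h1 : (g : Matrix (Fin 3) (Fin 3) F) = (u : F) • (g : Matrix (Fin 3) (Fin 3) F).transpose := by
        have h2 := congrArg Units.val (eq_mul_inv_of_mul_eq hu)
        refine h2.trans ?_
        rw [Units.val_mul]
        ext i j
        simp [invTransGL, Matrix.diagonal_mul]
      have hu1 : (u : F) = 1 := by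
        have h2 : (g : Matrix (Fin 3) (Fin 3) F) = ((u : F) * u) • (g : Matrix (Fin 3) (Fin 3) F) := by
          conv_lhs => rw [h1, h1, Matrix.transpose_smul, Matrix.transpose_transpose, smul_smul]
        have hne : (g : Matrix (Fin 3) (Fin 3) F) ≠ 0 := fun h0 => g.det.ne_zero (by
          rw [Matrix.GeneralLinearGroup.val_det_apply, h0]; exact Matrix.det_zero)
        have h3 : (u : F) * u = 1 := by
          by_contra hne1
          have h4 : ((u : F) * u - 1) • (g : Matrix (Fin 3) (Fin 3) F) = 0 := by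
            rw [sub_smul, one_smul, ← h2, sub_self]
          exact hne ((smul_eq_zero.1 h4).resolve_left (sub_ne_zero.2 hne1))
        have h4 : ((u : F) - 1) * ((u : F) - 1) = 0 := by linear_combination h3 + (1 - (u : F)) * hw.two
        exact sub_eq_zero.1 (mul_self_eq_zero.1 h4)
      rw [hu1, one_smul] at h1
      obtain ⟨h, hh⟩ := exists_eq_mul_transpose hw g h1.symm
      have e : conjSL g * invTransSL = conjSL h * invTransSL * (conjSL h)⁻¹ := by
        rw [← map_inv, mul_assoc, invTransSL_mul_conjSL, ← mul_assoc, ← map_mul]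
        congr 2
        apply Units.ext
        rw [Units.val_mul, hh]
        simp [invTransGL]
      rw [e]
      obtain ⟨s, c, hs⟩ := conj_split hw (φ := invTransSL) h (fun c => c⁻¹)
        (fun c => by rw [invTransSL_mul_conjSL, invTransGL_dlt]) (fun c d => mul_inv c d)
      exact ⟨s, _, 1, invTransSL, Or.inr (Or.inl ⟨rfl, rfl⟩), by rw [map_one, one_mul]; exact hs⟩
    · rw [mul_assoc] at hα hout ⊢
      obtain ⟨h, e⟩ := isConj_graphField_of_sq_eq_one (by norm_num) (field_order hw hσ) g
        (by rw [pow_two]; exact hα)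
      rw [e, ← map_inv, ← map_mul, ← map_mul]
      obtain ⟨s, c, hs⟩ := conj_split hw (φ := fieldSL σ * invTransSL) h
        (fun c => Units.map σ.toRingHom.toMonoidHom c⁻¹)
        (fun c => by
          rw [mul_assoc, invTransSL_mul_conjSL, invTransGL_dlt, ← mul_assoc, fieldSL_mul_conjSL,
            mapGL_dlt, mul_assoc]) (fun c d => by rw [mul_inv, map_mul])
      have hfix : Units.map σ.toRingHom.toMonoidHom c⁻¹ = c := by
        apply Units.ext
        show σ ((c⁻¹ : Fˣ) : F) = c
        rw [(field_sq hw hσ).2, ← Units.val_mul]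
        congr 1
        have h3 := units_cube hw c
        calc c⁻¹ * c⁻¹ = c ^ 3 * (c⁻¹ * c⁻¹) := by rw [h3, one_mul]
          _ = c := by group
      rw [hfix, mul_inv_cancel] at hs
      exact ⟨s, 1, σ, invTransSL, Or.inr (Or.inr ⟨hσ, rfl, rfl⟩), hs⟩

/-- The centraliser of the graph automorphism has no element of order four. -/
theorem sq_eq_one_of_graph_fixed {x : Matrix.ProjectiveSpecialLinearGroup (Fin 3) F}
    (hx : toPSLAut invTransSL x = x) (h4 : x ^ 4 = 1) : x ^ 2 = 1 := by
  haveI := four_char hw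
  obtain ⟨s₀, rfl⟩ := QuotientGroup.mk_surjective x
  -- a lift of order dividing four
  obtain ⟨s, hs, hs4⟩ : ∃ s : SL(3, F), (QuotientGroup.mk s : Matrix.ProjectiveSpecialLinearGroup (Fin 3) F) =
      QuotientGroup.mk s₀ ∧ s ^ 4 = 1 := by
    have hc : s₀ ^ 4 ∈ Subgroup.center SL(3, F) := (QuotientGroup.eq_one_iff _).1 h4
    have hc3 : (s₀ ^ 4) ^ 3 = 1 := by
      obtain ⟨r, hr, hrz⟩ := Matrix.SpecialLinearGroup.mem_center_iff.1 hc
      apply Subtype.ext
      rw [Matrix.SpecialLinearGroup.coe_pow, ← hrz, ← map_pow, show r ^ 3 = 1 by simpa using hr, map_one,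
        Matrix.SpecialLinearGroup.coe_one]
    refine ⟨s₀ * (s₀ ^ 4) ^ 2, ?_, ?_⟩
    · rw [QuotientGroup.mk_mul, QuotientGroup.mk_pow, QuotientGroup.mk_pow, h4, one_pow, mul_one]
    · calc (s₀ * (s₀ ^ 4) ^ 2) ^ 4 = ((s₀ ^ 4) ^ 3) ^ 3 := by
            rw [← pow_mul, ← pow_succ', ← pow_mul, ← pow_mul, ← pow_mul]
        _ = 1 := by rw [hc3, one_pow]
  rw [← hs] at hx ⊢
  rw [toPSLAut_mk, eq_comm, QuotientGroup.eq] at hx
  obtain ⟨r, hr, hrz⟩ := Matrix.SpecialLinearGroup.mem_center_iff.1 hx
  set A : Matrix (Fin 3) (Fin 3) F := (s : Matrix (Fin 3) (Fin 3) F) with hA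
  have hAinv : A * ((s⁻¹ : SL(3, F)) : Matrix (Fin 3) (Fin 3) F) = 1 := by
    rw [hA, ← Matrix.SpecialLinearGroup.coe_mul, mul_inv_cancel, Matrix.SpecialLinearGroup.coe_one]
  have e1 : ((s⁻¹ : SL(3, F)) : Matrix (Fin 3) (Fin 3) F).transpose = r • A := by
    have h := congrArg (fun M => A * M) hrz
    simp only [Matrix.SpecialLinearGroup.coe_mul, ← Matrix.mul_assoc, hAinv, Matrix.one_mul,
      invTransSL_coe] at h
    rw [← h, Matrix.scalar_apply, ← Matrix.smul_one_eq_diagonal, Matrix.mul_smul, Matrix.mul_one]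
  have e2 : r • (A * A.transpose) = 1 := by
    have h := congrArg (fun M => M * A.transpose) e1
    rw [← Matrix.transpose_mul, hAinv, Matrix.transpose_one, Matrix.smul_mul] at h
    exact h.symm
  have hA4 : A ^ 4 = 1 := by
    rw [hA, ← Matrix.SpecialLinearGroup.coe_pow, hs4, Matrix.SpecialLinearGroup.coe_one]
  have e3 : r • (A.transpose * A) = 1 := by
    rw [← Matrix.smul_mul]; rw [← Matrix.mul_smul] at e2
    exact mul_eq_one_comm.1 e2
  have hr1 : r = 1 := by
    have h4' : r ^ 4 • (A ^ 4 * A.transpose ^ 4) = 1 := by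
      have hcomm : Commute A A.transpose := by
        show A * A.transpose = A.transpose * A
        have hr0 : r ≠ 0 := fun h => by simp [h] at e2
        exact smul_right_injective _ hr0 (e2.trans e3.symm)
      rw [← hcomm.mul_pow, ← smul_pow, e2, one_pow]
    rw [← Matrix.transpose_pow, hA4, Matrix.transpose_one, Matrix.mul_one] at h4'
    have := congrFun (congrFun h4' 0) 0
    simp at this
    have h3 : r ^ 3 = 1 := by simpa using hr
    rwa [pow_succ, h3, one_mul] at this
  rw [hr1, one_smul] at e2 e3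
  -- `A = 1 + N`, `N` kills the all-one vector
  set N : Matrix (Fin 3) (Fin 3) F := A + 1 with hN
  have hchar : ∀ M : Matrix (Fin 3) (Fin 3) F, M + M = 0 := fun M => by
    ext i j; exact CharTwo.add_self_eq_zero _
  have hAN : A = N + 1 := by rw [hN, add_assoc, hchar, add_zero]
  have hN4 : N ^ 4 = 0 := by
    have h : N ^ 4 = A ^ 4 + 1 := by
      have hm : N * N = A * A + 1 := by
        rw [hN]; simp only [add_mul, mul_add, one_mul, mul_one]
        rw [add_assoc, ← add_assoc A, hchar, zero_add]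
      calc N ^ 4 = N * N * (N * N) := by simp [pow_succ, mul_assoc]
        _ = (A * A + 1) * (A * A + 1) := by rw [hm]
        _ = A ^ 4 + 1 := by
          simp only [add_mul, mul_add, one_mul, mul_one, pow_succ, pow_zero, mul_assoc]
          rw [add_assoc, ← add_assoc (A * A), hchar, zero_add]
    rw [h, hA4, hchar]
  have hnil : N ^ 3 = 0 := by
    have hz : IsNilpotent N := ⟨4, hN4⟩
    have := Matrix.aeval_self_charpoly N
    have hcp := Matrix.isNilpotent_charpoly_sub_pow_of_isNilpotent hz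
    rw [Fintype.card_fin] at hcp
    rw [sub_eq_zero.1 (IsNilpotent.eq_zero hcp)] at this
    simpa using this
  set j : Fin 3 → F := fun _ => 1
  have hrow : ∀ i, ∑ k, A i k = 1 := fun i => by
    have h := congrFun (congrFun e2 i) i
    simp [Matrix.mul_apply, Fin.sum_univ_three] at h
    have hsq : (A i 0 + A i 1 + A i 2 - 1) * (A i 0 + A i 1 + A i 2 - 1) = 0 := by
      linear_combination h + (A i 0 * A i 1 + A i 0 * A i 2 + A i 1 * A i 2
        - A i 0 - A i 1 - A i 2 + 1) * hw.two
    rw [Fin.sum_univ_three]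
    exact sub_eq_zero.1 (mul_self_eq_zero.1 hsq)
  have hcol : ∀ i, ∑ k, A k i = 1 := fun i => by
    have h := congrFun (congrFun e3 i) i
    simp [Matrix.mul_apply, Fin.sum_univ_three] at h
    have hsq : (A 0 i + A 1 i + A 2 i - 1) * (A 0 i + A 1 i + A 2 i - 1) = 0 := by
      linear_combination h + (A 0 i * A 1 i + A 0 i * A 2 i + A 1 i * A 2 i
        - A 0 i - A 1 i - A 2 i + 1) * hw.two
    rw [Fin.sum_univ_three]
    exact sub_eq_zero.1 (mul_self_eq_zero.1 hsq)
  have hNj : N *ᵥ j = 0 := funext fun i => by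
    simp [Matrix.mulVec, dotProduct, hN, j, Matrix.one_apply, Finset.sum_add_distrib, hrow,
      CharTwo.add_self_eq_zero]
  have hjN : j ᵥ* N = 0 := funext fun i => by
    simp [Matrix.vecMul, dotProduct, hN, j, Matrix.one_apply, Finset.sum_add_distrib, hcol,
      CharTwo.add_self_eq_zero]
  have hN2 : N ^ 2 = 0 := by
    by_contra hne
    obtain ⟨v, hv⟩ : ∃ v, (N ^ 2) *ᵥ v ≠ 0 := by
      by_contra hno
      push Not at hno
      refine hne (Matrix.ext fun i k => ?_)
      have := congrFun (hno (Pi.single k 1)) i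
      simpa using this
    set v1 : Fin 3 → F := N *ᵥ v
    set v2 : Fin 3 → F := N *ᵥ v1
    have hv2 : v2 ≠ 0 := by
      show N *ᵥ (N *ᵥ v) ≠ 0
      rwa [Matrix.mulVec_mulVec, ← pow_two]
    have hN3v : N *ᵥ v2 = 0 := by
      show N *ᵥ (N *ᵥ (N *ᵥ v)) = 0
      rw [Matrix.mulVec_mulVec, Matrix.mulVec_mulVec, ← pow_three', hnil, Matrix.zero_mulVec]
    have happ : ∀ a b c : F, N *ᵥ (a • v + b • v1 + c • v2) = a • v1 + b • v2 := fun a b c => by
      rw [Matrix.mulVec_add, Matrix.mulVec_add, Matrix.mulVec_smul, Matrix.mulVec_smul,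
        Matrix.mulVec_smul, hN3v, smul_zero, add_zero]
    have happ2 : ∀ a b : F, N *ᵥ (a • v1 + b • v2) = a • v2 := fun a b => by
      rw [Matrix.mulVec_add, Matrix.mulVec_smul, Matrix.mulVec_smul, hN3v, smul_zero, add_zero]
    have hli : ∀ a b c : F, N *ᵥ (a • v + b • v1 + c • v2) = 0 → a = 0 ∧ b = 0 := by
      intro a b c h
      rw [happ] at h
      have h' := congrArg (fun x => N *ᵥ x) h
      simp only [happ2, Matrix.mulVec_zero] at h'
      obtain rfl := (smul_eq_zero.1 h').resolve_right hv2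
      rw [zero_smul, zero_add] at h
      exact ⟨rfl, (smul_eq_zero.1 h).resolve_right hv2⟩
    have hind : LinearIndependent F ![v, v1, v2] := by
      rw [Fintype.linearIndependent_iff]
      intro c hc i
      simp [Fin.sum_univ_three] at hc
      obtain ⟨h1, h2⟩ := hli (c 0) (c 1) (c 2) (by rw [hc, Matrix.mulVec_zero])
      have h3 : c 2 = 0 := by
        rw [h1, h2, zero_smul, zero_smul, zero_add, zero_add] at hc
        exact (smul_eq_zero.1 hc).resolve_right hv2
      fin_cases i <;> assumption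
    have hspan := hind.span_eq_top_of_card_eq_finrank (by simp)
    obtain ⟨c, hc⟩ := (Submodule.mem_span_range_iff_exists_fun F).1 (hspan ▸ (Submodule.mem_top : j ∈ ⊤))
    simp [Fin.sum_univ_three] at hc
    obtain ⟨h1, h2⟩ := hli (c 0) (c 1) (c 2) (by rw [hc, hNj])
    rw [h1, h2, zero_smul, zero_smul, zero_add, zero_add] at hc
    have hjj : j ⬝ᵥ j = 1 := by
      simp [j, dotProduct, Fin.sum_univ_three]
      linear_combination hw.two
    have : j ⬝ᵥ j = 0 := by
      conv_lhs => arg 2; rw [← hc]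
      rw [dotProduct_smul]
      show c 2 • (j ⬝ᵥ (N *ᵥ v1)) = 0
      rw [Matrix.dotProduct_mulVec, hjN, zero_dotProduct, smul_zero]
    exact one_ne_zero (hjj.symm.trans this)
  have hA2 : A ^ 2 = 1 := by
    have : A ^ 2 = N ^ 2 + 1 := by
      rw [pow_two, pow_two, hAN]
      simp only [add_mul, mul_add, one_mul, mul_one]
      rw [add_assoc, ← add_assoc N, hchar, zero_add]
    rw [this, hN2, zero_add]
  rw [← QuotientGroup.mk_pow, show s ^ 2 = 1 from Subtype.ext (by
    rw [Matrix.SpecialLinearGroup.coe_pow, Matrix.SpecialLinearGroup.coe_one, ← hA]; exact hA2)]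
  rfl

end

end CfsgLib.ONanRec
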