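import Cfsg.Agent.ONanRec.FramesBase

/-!
# A frame for every exchange of `tM` and `uM`

For an involutive endomorphism `s` of `RR` carrying `tM` to `uM` there are a frame with an `e`
generating `CM` whose image under `s` is a frame with a `b`.
-/

set_option autoImplicit false
set_option linter.style.longLine false
set_option maxRecDepth 4000

namespace CfsgLib.ONanRec

open CfsgLib.MultPSLThreeFour

theorem BFrame.map {K L : Type*} [Group K] [Group L] (φ : K →* L) {a f c d g b : K}
    (h : BFrame a f c d g b) : BFrame (φ a) (φ f) (φ c) (φ d) (φ g) (φ b) where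
  bb := by rw [← map_mul, h.bb, map_one]
  bf := by rw [← map_mul, ← map_mul, h.bf]
  bd := by rw [← map_mul, ← map_mul, h.bd]
  ba := by rw [← map_mul, ← map_pow, h.ba, map_one]
  bc := by rw [← map_mul, ← map_pow, h.bc, map_one]
  rel := by simpa using congrArg φ h.rel
  five := by simpa using congrArg φ h.five
  nm := by simpa using congrArg φ h.nm

section
variable (hle : Nat.card RR ≤ 256) (s : RR →* RR) {C D G : ℕ}
  (hC : el C = s (rgen 0)) (hD : el D = s (rgen 1)) (hG : el G = s (rgen 2))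

include hle hC hD hG in
theorem map_prod_rgen (w : List (Fin 3)) :
    s ((w.map rgen).prod) = el (evI C D G w) ∧ evI C D G w < 256 := by
  have himg : ∀ k : Fin 3, el (imgOf C D G k) = s (rgen k) := by
    intro k; fin_cases k
    · exact hC
    · exact hD
    · exact hG
  have key : ∀ (v : List (Fin 3)) (r : ℕ), r < 256 →
      el r * s ((v.map rgen).prod) = el (v.foldl (fun r k => mulI r (imgOf C D G k)) r) ∧
        v.foldl (fun r k => mulI r (imgOf C D G k)) r < 256 := by
    intro v
    induction v with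
    | nil => intro r hr; simp [hr]
    | cons k v ih =>
      intro r hr
      obtain ⟨h1, h2⟩ := ih _ (mulI_lt hr (imgOf C D G k))
      refine ⟨?_, h2⟩
      rw [List.map_cons, List.prod_cons, map_mul, ← mul_assoc, ← himg, el_mul hle hr, h1,
        List.foldl_cons]
  obtain ⟨h1, h2⟩ := key w 0 (by norm_num)
  rw [el_zero, one_mul] at h1
  exact ⟨h1, h2⟩

include hle hC hD hG in
theorem map_el (i : ℕ) : s (el i) = el (evI C D G (rW i)) :=
  (map_prod_rgen hle s hC hD hG (rW i)).1

include hle hC hD hG in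
theorem evI_eq {i j : ℕ} (hj : j < 256) (h : s (el i) = el j) : evI C D G (rW i) = j :=
  el_inj (map_prod_rgen hle s hC hD hG (rW i)).2 hj (by rw [← map_el hle s hC hD hG, h])

end

theorem coe_el_ten : (el 10 : CM) = tM := by
  rw [tM_eq]; exact el_eq_evC (by decide +kernel)

theorem coe_el_two : (el 2 : CM) = uM := by
  rw [uM_eq]; exact el_eq_evC (by decide +kernel)

/-- The main statement: every exchange has a frame. -/
theorem frames (hle : Nat.card RR ≤ 256) (s : RR →* RR) (hs : ∀ x, s (s x) = x)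
    (ht : (s ⟨tM, tM_mem_RR⟩ : CM) = uM) :
    ∃ (c d g : RR) (e e' : CM), RFrame tM uM (c : CM) d g ∧ EFrame tM uM (c : CM) d g e ∧
      BFrame uM tM (s c : CM) (s d) (s g) e' ∧
      Subgroup.closure ({tM, uM, (c : CM), (d : CM), (g : CM), e} : Set CM) = ⊤ := by
  have h10 : (⟨tM, tM_mem_RR⟩ : RR) = el 10 := Subtype.ext coe_el_ten.symm
  have hst : s (el 10) = el 2 := Subtype.ext (by rw [← h10, ht, coe_el_two])
  have hsu : s (el 2) = el 10 := by rw [← hst, hs]
  obtain ⟨C, hCl, hC⟩ := el_surj hle (s (rgen 0))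
  obtain ⟨D, hDl, hD⟩ := el_surj hle (s (rgen 1))
  obtain ⟨G, hGl, hG⟩ := el_surj hle (s (rgen 2))
  -- generators as tabulated elements
  have g0 : rgen 0 = el 140 := by
    rw [show rgen 0 = ([(0 : Fin 3)].map rgen).prod by simp]
    exact prod_eq_el hle (by norm_num) (Nat.eq_of_beq_eq_true (by decide +kernel))
  have g1 : rgen 1 = el 4 := by
    rw [show rgen 1 = ([(1 : Fin 3)].map rgen).prod by simp]
    exact prod_eq_el hle (by norm_num) (Nat.eq_of_beq_eq_true (by decide +kernel))
  have g2 : rgen 2 = el 99 := by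
    rw [show rgen 2 = ([(2 : Fin 3)].map rgen).prod by simp]
    exact prod_eq_el hle (by norm_num) (Nat.eq_of_beq_eq_true (by decide +kernel))
  have hsC : s (el C) = el 140 := by rw [hC, hs, g0]
  have hsD : s (el D) = el 4 := by rw [hD, hs, g1]
  have hsG : s (el G) = el 99 := by rw [hG, hs, g2]
  have ok : swapOK C D G = true := by
    simp only [swapOK, evI_eq hle s hC hD hG (by norm_num) hst,
      evI_eq hle s hC hD hG (by norm_num) hsu, evI_eq hle s hC hD hG (by norm_num) hsC,
      evI_eq hle s hC hD hG (by norm_num) hsD, evI_eq hle s hC hD hG (by norm_num) hsG,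
      Nat.beq_refl, Bool.and_self]
  have e140 : mulI 140 140 = 0 := by decide +kernel
  have e4 : mulI 4 4 = 0 := by decide +kernel
  have e99 : mulI 99 99 = 30 := by decide +kernel
  have hCC : mulI C C = 0 := by
    refine el_inj (mulI_lt hCl C) (by norm_num) ?_
    rw [← el_mul hle hCl, hC, ← map_mul, g0, el_mul hle (by norm_num), e140, el_zero, map_one]
  have hDD : mulI D D = 0 := by
    refine el_inj (mulI_lt hDl D) (by norm_num) ?_
    rw [← el_mul hle hDl, hD, ← map_mul, g1, el_mul hle (by norm_num), e4, el_zero, map_one]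
  have h30 : s (el 30) = el 30 := by
    have a : mulI 10 2 = 30 := by decide +kernel
    have b : mulI 2 10 = 30 := by decide +kernel
    conv_lhs => rw [← a, ← el_mul hle (by norm_num), map_mul, hst, hsu, el_mul hle (by norm_num), b]
  have hGG : mulI G G = 30 := by
    refine el_inj (mulI_lt hGl G) (by norm_num) ?_
    rw [← el_mul hle hGl, hG, ← map_mul, g2, el_mul hle (by norm_num), e99, h30]
  have hCD : evI C D 0 [0, 1, 0, 1, 0, 1, 0, 1] = 30 := by
    have p0 : (([0, 1, 0, 1, 0, 1, 0, 1] : List (Fin 3)).map rgen).prod = el 30 :=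
      prod_eq_el hle (by norm_num) (Nat.eq_of_beq_eq_true (by decide +kernel))
    obtain ⟨e, hlt⟩ := map_prod_rgen hle s hC hD hG [0, 1, 0, 1, 0, 1, 0, 1]
    rw [p0, h30] at e
    exact (show evI C D 0 [0, 1, 0, 1, 0, 1, 0, 1] = evI C D G [0, 1, 0, 1, 0, 1, 0, 1] from rfl).trans
      (el_inj hlt (by norm_num) e.symm)
  -- membership in the three lists
  have mC : C ∈ invList := by
    have := of_allBelow invList_complete C hCl
    rw [hCC] at this
    simpa using this
  have mD : D ∈ invList := by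
    have := of_allBelow invList_complete D hDl
    rw [hDD] at this
    simpa using this
  have mG : G ∈ sqList := by
    have := of_allBelow sqList_complete G hGl
    rw [hGG] at this
    simpa using this
  have hscan : (!Nat.beq (evI C D 0 [0, 1, 0, 1, 0, 1, 0, 1]) 30 ||
      sqList.all fun G => !swapOK C D G || listed C D G) = true :=
    List.all_eq_true.1 (swapScan_all mC) D mD
  rw [hCD, Nat.beq_refl, Bool.not_true, Bool.false_or] at hscan
  have hl := List.all_eq_true.1 hscan G mG
  rw [ok, Bool.not_true, Bool.false_or, listed, List.any_eq_true] at hl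
  obtain ⟨⟨C', D', G', p, j, r⟩, hx, hcode⟩ := hl
  simp only [Bool.and_eq_true] at hcode
  obtain ⟨⟨hc', hd'⟩, hg'⟩ := hcode
  obtain rfl : C' = C := Nat.eq_of_beq_eq_true hc'
  obtain rfl : D' = D := Nat.eq_of_beq_eq_true hd'
  obtain rfl : G' = G := Nat.eq_of_beq_eq_true hg'
  have hw := List.all_eq_true.1 wit_check _ hx
  simp only [witOK, Bool.and_eq_true, decide_eq_true_eq] at hw
  obtain ⟨⟨⟨⟨⟨hp, hj⟩, hr⟩, w1⟩, w2⟩, w3⟩ := hw
  have hconj : ∀ {x b : ℕ}, b < 256 → Nat.beq (mulI r (evI C' D' G' (rW x))) (mulI b r) = true →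
      (MulAut.conj (el r : CM)⁻¹).toMonoidHom (el b : CM) = (s (el x) : CM) := by
    intro x b hb hh
    have e : el r * s (el x) = el b * el r := by
      rw [map_el hle s hC hD hG, el_mul hle hr, el_mul hle hb, Nat.eq_of_beq_eq_true hh]
    have e' := congrArg (fun q : RR => (q : CM)) e
    simp only [Subgroup.coe_mul] at e'
    show (el r : CM)⁻¹ * el b * ((el r : CM)⁻¹)⁻¹ = _
    rw [inv_inv, mul_assoc, ← e', inv_mul_cancel_left]
  have hfix : (MulAut.conj (el r : CM)⁻¹).toMonoidHom uM = uM ∧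
      (MulAut.conj (el r : CM)⁻¹).toMonoidHom tM = tM := by
    obtain ⟨ht', hu'⟩ := mem_RR.1 (el r).2
    constructor
    · show (el r : CM)⁻¹ * uM * ((el r : CM)⁻¹)⁻¹ = uM
      rw [inv_inv, mul_assoc, hu', inv_mul_cancel_left]
    · show (el r : CM)⁻¹ * tM * ((el r : CM)⁻¹)⁻¹ = tM
      rw [inv_inv, mul_assoc, ht', inv_mul_cancel_left]
  have hE4 : ∀ p < 4, ∃ e : CM, RFrame tM uM (el (eBase.getD p (0, 0, 0)).1 : CM)
      (el (eBase.getD p (0, 0, 0)).2.1 : CM) (el (eBase.getD p (0, 0, 0)).2.2 : CM) ∧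
      EFrame tM uM (el (eBase.getD p (0, 0, 0)).1 : CM) (el (eBase.getD p (0, 0, 0)).2.1 : CM)
        (el (eBase.getD p (0, 0, 0)).2.2 : CM) e ∧
      Subgroup.closure ({tM, uM, (el (eBase.getD p (0, 0, 0)).1 : CM),
        (el (eBase.getD p (0, 0, 0)).2.1 : CM), (el (eBase.getD p (0, 0, 0)).2.2 : CM), e} : Set CM) = ⊤
    | 0, _ => eBase_0
    | 1, _ => eBase_1
    | 2, _ => eBase_2
    | 3, _ => eBase_3
    | n + 4, h => absurd h (by omega)
  have hB4 : ∀ j < 4, ∃ e : CM, BFrame uM tM (el (bBase.getD j (0, 0, 0)).1 : CM)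
      (el (bBase.getD j (0, 0, 0)).2.1 : CM) (el (bBase.getD j (0, 0, 0)).2.2 : CM) e
    | 0, _ => bBase_0
    | 1, _ => bBase_1
    | 2, _ => bBase_2
    | 3, _ => bBase_3
    | n + 4, h => absurd h (by omega)
  have hlt : ∀ j < 4, (bBase.getD j (0, 0, 0)).1 < 256 ∧ (bBase.getD j (0, 0, 0)).2.1 < 256 ∧
      (bBase.getD j (0, 0, 0)).2.2 < 256 := by decide
  obtain ⟨e, hR, hE, htop⟩ := hE4 p hp
  obtain ⟨b, hB⟩ := hB4 j hj
  obtain ⟨l1, l2, l3⟩ := hlt j hj
  have hB' := hB.map (MulAut.conj (el r : CM)⁻¹).toMonoidHom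
  rw [hconj l1 w1, hconj l2 w2, hconj l3 w3, hfix.1, hfix.2] at hB'
  exact ⟨el _, el _, el _, e, _, hR, hE, hB', htop⟩

end CfsgLib.ONanRec
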