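import Cfsg.Agent.ONanRec.RTable

/-!
# The involutive automorphisms of `RR` exchanging `tM` and `uM`

An automorphism is given by the images of the three generators.  The search below finds the 64
possible triples and, for each, one of four frames whose image is conjugate inside `RR` to one of
four base frames.
-/

set_option autoImplicit false
set_option linter.style.longLine false
set_option maxRecDepth 4000

namespace CfsgLib.ONanRec

open CfsgLib.MultPSLThreeFour

/-- The involutions of `RR` and the identity. -/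
def invList : List ℕ := [0, 1, 2, 4, 6, 7, 9, 10, 14, 16, 18, 21, 24, 25, 30, 31, 40, 41, 56, 57, 72, 86, 87, 98, 112, 115, 116, 123, 140, 141, 143, 147, 156, 157, 168, 169, 175, 188, 189, 205, 206, 215, 216, 217, 218, 225, 226, 227, 244, 245, 246, 247, 250, 251, 252, 253]

/-- The square roots of `tM * uM`. -/
def sqList : List ℕ := [26, 27, 44, 47, 99, 109, 110, 111, 134, 135, 152, 153, 162, 163, 164, 165, 171, 172, 173, 174, 219, 220, 242, 243]

/-- The frames `(c, d, g)` for `e`. -/
def eBase : List (ℕ × ℕ × ℕ) := [(140, 4, 109), (140, 4, 164), (140, 4, 171), (140, 4, 243)]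

/-- The frames `(c, d, g)` for `b`. -/
def bBase : List (ℕ × ℕ × ℕ) := [(1, 156, 164), (1, 156, 219), (1, 188, 111), (1, 188, 171)]

/-- The 64 triples of images with a frame, a base frame and a conjugating element. -/
def swapWit : List (ℕ × ℕ × ℕ × ℕ × ℕ × ℕ) :=
   [(1, 226, 99, 3, 0, 130), (1, 226, 111, 2, 1, 130), (1, 227, 220, 0, 0, 1), (1, 227, 243, 1, 1, 1),
    (4, 140, 99, 2, 1, 71), (4, 140, 111, 3, 0, 71), (4, 140, 219, 0, 0, 71), (4, 140, 242, 1, 1, 71),
    (6, 226, 220, 1, 1, 132), (6, 226, 243, 0, 0, 132), (6, 227, 99, 2, 1, 4), (6, 227, 111, 3, 0, 4),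
    (7, 169, 99, 0, 0, 52), (7, 169, 111, 1, 1, 52), (7, 169, 219, 2, 1, 52), (7, 169, 242, 3, 0, 52),
    (9, 244, 99, 1, 1, 38), (9, 244, 111, 0, 0, 38), (9, 244, 219, 3, 0, 38), (9, 244, 242, 2, 1, 38),
    (14, 141, 99, 3, 0, 223), (14, 141, 111, 2, 1, 223), (14, 141, 219, 1, 1, 223), (14, 141, 242, 0, 0, 223),
    (16, 205, 99, 1, 1, 140), (16, 205, 111, 0, 0, 140), (16, 206, 220, 2, 1, 226), (16, 206, 243, 3, 0, 226),
    (18, 156, 99, 0, 0, 180), (18, 156, 111, 1, 1, 180), (18, 157, 220, 3, 0, 192), (18, 157, 243, 2, 1, 192),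
    (21, 246, 220, 1, 1, 88), (21, 246, 243, 0, 0, 88), (21, 247, 99, 2, 1, 7), (21, 247, 111, 3, 0, 7),
    (24, 168, 99, 1, 1, 48), (24, 168, 111, 0, 0, 48), (24, 168, 219, 3, 0, 48), (24, 168, 242, 2, 1, 48),
    (25, 245, 99, 0, 0, 50), (25, 245, 111, 1, 1, 50), (25, 245, 219, 2, 1, 50), (25, 245, 242, 3, 0, 50),
    (31, 189, 99, 3, 0, 182), (31, 189, 111, 2, 1, 182), (31, 189, 219, 1, 1, 182), (31, 189, 242, 0, 0, 182),
    (40, 205, 220, 3, 0, 194), (40, 205, 243, 2, 1, 194), (40, 206, 99, 0, 0, 176), (40, 206, 111, 1, 1, 176),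
    (41, 156, 220, 2, 1, 156), (41, 156, 243, 3, 0, 156), (41, 157, 99, 1, 1, 168), (41, 157, 111, 0, 0, 168),
    (57, 246, 99, 3, 0, 100), (57, 246, 111, 2, 1, 100), (57, 247, 220, 0, 0, 16), (57, 247, 243, 1, 1, 16),
    (72, 188, 99, 2, 1, 146), (72, 188, 111, 3, 0, 146), (72, 188, 219, 0, 0, 146), (72, 188, 242, 1, 1, 146)]

/-- The three images. -/
def imgOf (C D G : ℕ) (k : Fin 3) : ℕ := bif Nat.beq k.val 0 then C else bif Nat.beq k.val 1 then D else G

/-- The image of a word in the generators. -/
def evI (C D G : ℕ) (w : List (Fin 3)) : ℕ := w.foldl (fun r k => mulI r (imgOf C D G k)) 0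

/-- The conditions on the images. -/
def swapOK (C D G : ℕ) : Bool :=
  Nat.beq (evI C D G (rW 10)) 2 && Nat.beq (evI C D G (rW 2)) 10 &&
    Nat.beq (evI C D G (rW C)) 140 && Nat.beq (evI C D G (rW D)) 4 && Nat.beq (evI C D G (rW G)) 99

theorem invList_complete :
    (allBelow 256 fun i => !Nat.beq (mulI i i) 0 || invList.contains i) = true := by
  decide +kernel

theorem sqList_complete :
    (allBelow 256 fun i => !Nat.beq (mulI i i) 30 || sqList.contains i) = true := by
  decide +kernel

/-- A triple is listed. -/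
def listed (C D G : ℕ) : Bool :=
  swapWit.any fun x => Nat.beq x.1 C && Nat.beq x.2.1 D && Nat.beq x.2.2.1 G

/-- The search below one image of the first generator. -/
def swapScan (C : ℕ) : Bool :=
  invList.all fun D => !Nat.beq (evI C D 0 [0, 1, 0, 1, 0, 1, 0, 1]) 30 ||
    sqList.all fun G => !swapOK C D G || listed C D G

theorem swapScan_0 : (((invList.drop 0).take 8).all swapScan) = true := by
  decide +kernel

theorem swapScan_1 : (((invList.drop 8).take 8).all swapScan) = true := by
  decide +kernel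

theorem swapScan_2 : (((invList.drop 16).take 8).all swapScan) = true := by
  decide +kernel

theorem swapScan_3 : (((invList.drop 24).take 8).all swapScan) = true := by
  decide +kernel

theorem swapScan_4 : (((invList.drop 32).take 8).all swapScan) = true := by
  decide +kernel

theorem swapScan_5 : (((invList.drop 40).take 8).all swapScan) = true := by
  decide +kernel

theorem swapScan_6 : (((invList.drop 48).take 8).all swapScan) = true := by
  decide +kernel

theorem swapScan_all {C : ℕ} (hC : C ∈ invList) : swapScan C = true := by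
  have h : invList = (invList.drop 0).take 8 ++ (invList.drop 8).take 8 ++ (invList.drop 16).take 8 ++ (invList.drop 24).take 8 ++ (invList.drop 32).take 8 ++ (invList.drop 40).take 8 ++ (invList.drop 48).take 8 := by decide
  rw [h] at hC
  simp only [List.mem_append] at hC
  rcases hC with ((((((h0 | h1) | h2) | h3) | h4) | h5) | h6)
  · exact List.all_eq_true.1 swapScan_0 C h0
  · exact List.all_eq_true.1 swapScan_1 C h1
  · exact List.all_eq_true.1 swapScan_2 C h2
  · exact List.all_eq_true.1 swapScan_3 C h3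
  · exact List.all_eq_true.1 swapScan_4 C h4
  · exact List.all_eq_true.1 swapScan_5 C h5
  · exact List.all_eq_true.1 swapScan_6 C h6

/-- A witness sends its frame to a conjugate of its base frame. -/
def witOK (x : ℕ × ℕ × ℕ × ℕ × ℕ × ℕ) : Bool :=
  let (C, D, G, p, j, r) := x
  let f := eBase.getD p (0, 0, 0)
  let b := bBase.getD j (0, 0, 0)
  decide (p < 4) && decide (j < 4) && decide (r < 256) &&
    Nat.beq (mulI r (evI C D G (rW f.1))) (mulI b.1 r) &&
    Nat.beq (mulI r (evI C D G (rW f.2.1))) (mulI b.2.1 r) &&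
    Nat.beq (mulI r (evI C D G (rW f.2.2))) (mulI b.2.2 r)

theorem wit_check : swapWit.all witOK = true := by
  decide +kernel

end CfsgLib.ONanRec
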