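import Cfsg.Agent.ONanRec.FramesRel
import Cfsg.Agent.ONanRec.FramesSwap

/-!
# The base frames

The four frames for `e`, each generating `CM`, and the four base frames for `b`, on short words.
-/

set_option autoImplicit false
set_option linter.style.longLine false
set_option maxRecDepth 4000

namespace CfsgLib.ONanRec

open CfsgLib.MultPSLThreeFour

theorem el_eq_evC {i : ℕ} {w : List (Fin 25)} (h : eqChk [gWord (rW i)] [w] = true) :
    (el i : CM) = evC w := by
  have := eq_of_eqChk h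
  simp only [List.map_cons, List.map_nil, List.prod_cons, List.prod_nil, mul_one] at this
  rw [el, coe_prod_rgen, this]

/-- A letter as a word in `0, 3, 6, 12, 15, 18, 24`. -/
def letterWord (g : Fin 25) : List (Fin 25) :=
  ([[0], [3, 24, 6, 24, 15, 24, 6, 24], [0, 6, 0, 6], [3], [24, 0, 24], [6, 24, 0, 3, 24, 6, 24, 3, 24], [6], [3, 24, 0, 24, 3, 24, 0, 24], [24, 0, 6, 0, 6, 24], [24, 0, 6, 0, 6, 3, 24], [24, 6, 24], [0, 24, 3, 6, 24, 0, 24, 3, 24], [0], [3, 24, 6, 24, 3, 24, 6, 24], [0, 6, 0, 6], [15], [24, 0, 24], [6, 24, 0, 3, 24, 6, 24, 15, 24], [6], [3, 24, 0, 24, 15, 24, 0, 24], [24, 0, 6, 0, 6, 24], [24, 0, 3, 6, 0, 6, 24], [24, 6, 24], [0, 24, 3, 6, 24, 0, 24, 15, 24], [24]] : List (List (Fin 25))).getD g.val []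

theorem letter_check : ((List.finRange 25).all fun g => eqChk [[g]] [letterWord g]) = true := by
  decide +kernel

theorem letter_word_check :
    ((List.finRange 25).all fun g => (letterWord g).all fun x => ([0, 3, 6, 12, 15, 18, 24] : List (Fin 25)).contains x) = true := by
  decide +kernel

/-- The letters `0, 3, 6, 24` generate `CM`. -/
theorem eq_top_of_letters {H : Subgroup CM} (h : ∀ g : Fin 25, g ∈ ([0, 3, 6, 24] : List (Fin 25)) → ltr g ∈ H) :
    H = ⊤ := by
  have hinv : ∀ g : Fin 25, g ∈ ([0, 3, 6, 12, 15, 18, 24] : List (Fin 25)) → ltr g ∈ H := by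
    intro g hg
    simp only [List.mem_cons, List.not_mem_nil, or_false] at hg
    rcases hg with rfl | rfl | rfl | rfl | rfl | rfl | rfl
    · exact h _ (by decide)
    · exact h _ (by decide)
    · exact h _ (by decide)
    · rw [show (12 : Fin 25) = flipC 0 by decide, ltr_flip]; exact inv_mem (h _ (by decide))
    · rw [show (15 : Fin 25) = flipC 3 by decide, ltr_flip]; exact inv_mem (h _ (by decide))
    · rw [show (18 : Fin 25) = flipC 6 by decide, ltr_flip]; exact inv_mem (h _ (by decide))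
    · exact h _ (by decide)
  have hall : ∀ g : Fin 25, ltr g ∈ H := by
    intro g
    have hchk : eqChk [[g]] [letterWord g] = true :=
      List.all_eq_true.1 letter_check g (List.mem_finRange g)
    have hword : (letterWord g).all (fun x => ([0, 3, 6, 12, 15, 18, 24] : List (Fin 25)).contains x) = true :=
      List.all_eq_true.1 letter_word_check g (List.mem_finRange g)
    have e := eq_of_eqChk hchk
    simp only [List.map_cons, List.map_nil, List.prod_cons, List.prod_nil, mul_one] at e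
    rw [show ltr g = evC [g] by simp [evC], e, evC]
    refine list_prod_mem ?_
    intro x hx
    obtain ⟨a, ha, rfl⟩ := List.mem_map.1 hx
    exact hinv a (List.contains_iff_mem.1 (List.all_eq_true.1 hword a ha))
  rw [eq_top_iff]
  rintro x -
  obtain ⟨⟨p, hp⟩, rfl⟩ := QuotientGroup.mk'_surjective KC x
  refine Subgroup.closure_induction
    (p := fun q hq => QuotientGroup.mk' KC (⟨q, hq⟩ : CT) ∈ H) ?_ ?_ ?_ ?_ hp
  · rintro q ⟨g, rfl⟩
    exact hall g
  · exact one_mem H
  · intro a b ha hb iha ihb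
    exact mul_mem iha ihb
  · intro a ha iha
    exact inv_mem iha

/-- The frame 0 for `e`. -/
theorem eBase_0 : ∃ e : CM, RFrame tM uM (el 140 : CM) (el 4 : CM) (el 109 : CM) ∧
    EFrame tM uM (el 140 : CM) (el 4 : CM) (el 109 : CM) e ∧
    Subgroup.closure ({tM, uM, (el 140 : CM), (el 4 : CM), (el 109 : CM), e} : Set CM) = ⊤ := by
  have hc : (el 140 : CM) = evC [1, 8, 2, 24, 1] := el_eq_evC (by decide +kernel)
  have hd : (el 4 : CM) = evC [6] := el_eq_evC (by decide +kernel)
  have hg : (el 109 : CM) = evC [8, 2, 21, 24] := el_eq_evC (by decide +kernel)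
  refine ⟨evC [0, 8, 5, 0], ?_, ?_, ?_⟩
  · rw [hc, hd, hg]; exact rframe_of (by decide +kernel)
  · rw [hc, hd, hg]; exact eframe_of (by decide +kernel)
  · rw [hc, hd, hg]
    apply eq_top_of_letters
    set H := Subgroup.closure ({tM, uM, evC [1, 8, 2, 24, 1], evC [6], evC [8, 2, 21, 24], evC [0, 8, 5, 0]} : Set CM) with hH
    have m0 : evC [1, 1] ∈ H := Subgroup.subset_closure (by simp [← tM_eq])
    have m1 : evC [2] ∈ H := Subgroup.subset_closure (by simp [← uM_eq])
    have m2 : evC [1, 8, 2, 24, 1] ∈ H := Subgroup.subset_closure (by simp)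
    have m3 : evC [6] ∈ H := Subgroup.subset_closure (by simp)
    have m4 : evC [8, 2, 21, 24] ∈ H := Subgroup.subset_closure (by simp)
    have m5 : evC (winv [8, 2, 21, 24]) ∈ H := by rw [evC_winv]; exact inv_mem m4
    have m6 : evC [0, 8, 5, 0] ∈ H := Subgroup.subset_closure (by simp)
    intro x hx
    simp only [List.mem_cons, List.not_mem_nil, or_false] at hx
    rcases hx with rfl | rfl | rfl | rfl
    · have e := eq_of_eqChk (l := [[0]]) (r := [[1, 1], [8, 2, 21, 24], [6], winv [8, 2, 21, 24]]) (by decide +kernel)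
      simp only [List.map_cons, List.map_nil, List.prod_cons, List.prod_nil, mul_one] at e
      rw [show ltr 0 = evC [0] by simp [evC], e]
      exact mul_mem m0 (mul_mem m4 (mul_mem m3 (m5)))
    · have e := eq_of_eqChk (l := [[3]]) (r := [[1, 8, 2, 24, 1], [6], [1, 8, 2, 24, 1], [8, 2, 21, 24], [6], [8, 2, 21, 24]]) (by decide +kernel)
      simp only [List.map_cons, List.map_nil, List.prod_cons, List.prod_nil, mul_one] at e
      rw [show ltr 3 = evC [3] by simp [evC], e]
      exact mul_mem m2 (mul_mem m3 (mul_mem m2 (mul_mem m4 (mul_mem m3 (m4)))))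
    · rw [show ltr 6 = evC [6] by simp [evC]]
      exact m3
    · have e := eq_of_eqChk (l := [[24]]) (r := [[8, 2, 21, 24], [0, 8, 5, 0], [6], winv [8, 2, 21, 24], [1, 8, 2, 24, 1], [0, 8, 5, 0], [8, 2, 21, 24], [6], [0, 8, 5, 0], winv [8, 2, 21, 24]]) (by decide +kernel)
      simp only [List.map_cons, List.map_nil, List.prod_cons, List.prod_nil, mul_one] at e
      rw [show ltr 24 = evC [24] by simp [evC], e]
      exact mul_mem m4 (mul_mem m6 (mul_mem m3 (mul_mem m5 (mul_mem m2 (mul_mem m6 (mul_mem m4 (mul_mem m3 (mul_mem m6 (m5)))))))))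

/-- The frame 1 for `e`. -/
theorem eBase_1 : ∃ e : CM, RFrame tM uM (el 140 : CM) (el 4 : CM) (el 164 : CM) ∧
    EFrame tM uM (el 140 : CM) (el 4 : CM) (el 164 : CM) e ∧
    Subgroup.closure ({tM, uM, (el 140 : CM), (el 4 : CM), (el 164 : CM), e} : Set CM) = ⊤ := by
  have hc : (el 140 : CM) = evC [1, 8, 2, 24, 1] := el_eq_evC (by decide +kernel)
  have hd : (el 4 : CM) = evC [6] := el_eq_evC (by decide +kernel)
  have hg : (el 164 : CM) = evC [24, 3, 9, 3, 9] := el_eq_evC (by decide +kernel)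
  refine ⟨evC [0, 8, 5, 0], ?_, ?_, ?_⟩
  · rw [hc, hd, hg]; exact rframe_of (by decide +kernel)
  · rw [hc, hd, hg]; exact eframe_of (by decide +kernel)
  · rw [hc, hd, hg]
    apply eq_top_of_letters
    set H := Subgroup.closure ({tM, uM, evC [1, 8, 2, 24, 1], evC [6], evC [24, 3, 9, 3, 9], evC [0, 8, 5, 0]} : Set CM) with hH
    have m0 : evC [1, 1] ∈ H := Subgroup.subset_closure (by simp [← tM_eq])
    have m1 : evC [2] ∈ H := Subgroup.subset_closure (by simp [← uM_eq])
    have m2 : evC [1, 8, 2, 24, 1] ∈ H := Subgroup.subset_closure (by simp)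
    have m3 : evC [6] ∈ H := Subgroup.subset_closure (by simp)
    have m4 : evC [24, 3, 9, 3, 9] ∈ H := Subgroup.subset_closure (by simp)
    have m5 : evC (winv [24, 3, 9, 3, 9]) ∈ H := by rw [evC_winv]; exact inv_mem m4
    have m6 : evC [0, 8, 5, 0] ∈ H := Subgroup.subset_closure (by simp)
    intro x hx
    simp only [List.mem_cons, List.not_mem_nil, or_false] at hx
    rcases hx with rfl | rfl | rfl | rfl
    · have e := eq_of_eqChk (l := [[0]]) (r := [[1, 1], [24, 3, 9, 3, 9], [6], winv [24, 3, 9, 3, 9]]) (by decide +kernel)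
      simp only [List.map_cons, List.map_nil, List.prod_cons, List.prod_nil, mul_one] at e
      rw [show ltr 0 = evC [0] by simp [evC], e]
      exact mul_mem m0 (mul_mem m4 (mul_mem m3 (m5)))
    · have e := eq_of_eqChk (l := [[3]]) (r := [[1, 8, 2, 24, 1], [6], [1, 8, 2, 24, 1], [24, 3, 9, 3, 9], [6], [24, 3, 9, 3, 9]]) (by decide +kernel)
      simp only [List.map_cons, List.map_nil, List.prod_cons, List.prod_nil, mul_one] at e
      rw [show ltr 3 = evC [3] by simp [evC], e]
      exact mul_mem m2 (mul_mem m3 (mul_mem m2 (mul_mem m4 (mul_mem m3 (m4)))))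
    · rw [show ltr 6 = evC [6] by simp [evC]]
      exact m3
    · have e := eq_of_eqChk (l := [[24]]) (r := [[24, 3, 9, 3, 9], [0, 8, 5, 0], [6], winv [24, 3, 9, 3, 9], [1, 8, 2, 24, 1], [0, 8, 5, 0], [24, 3, 9, 3, 9], [6], [0, 8, 5, 0], winv [24, 3, 9, 3, 9]]) (by decide +kernel)
      simp only [List.map_cons, List.map_nil, List.prod_cons, List.prod_nil, mul_one] at e
      rw [show ltr 24 = evC [24] by simp [evC], e]
      exact mul_mem m4 (mul_mem m6 (mul_mem m3 (mul_mem m5 (mul_mem m2 (mul_mem m6 (mul_mem m4 (mul_mem m3 (mul_mem m6 (m5)))))))))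

/-- The frame 2 for `e`. -/
theorem eBase_2 : ∃ e : CM, RFrame tM uM (el 140 : CM) (el 4 : CM) (el 171 : CM) ∧
    EFrame tM uM (el 140 : CM) (el 4 : CM) (el 171 : CM) e ∧
    Subgroup.closure ({tM, uM, (el 140 : CM), (el 4 : CM), (el 171 : CM), e} : Set CM) = ⊤ := by
  have hc : (el 140 : CM) = evC [1, 8, 2, 24, 1] := el_eq_evC (by decide +kernel)
  have hd : (el 4 : CM) = evC [6] := el_eq_evC (by decide +kernel)
  have hg : (el 171 : CM) = evC [0, 3, 6, 8, 2, 24] := el_eq_evC (by decide +kernel)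
  refine ⟨evC [0, 8, 5, 0], ?_, ?_, ?_⟩
  · rw [hc, hd, hg]; exact rframe_of (by decide +kernel)
  · rw [hc, hd, hg]; exact eframe_of (by decide +kernel)
  · rw [hc, hd, hg]
    apply eq_top_of_letters
    set H := Subgroup.closure ({tM, uM, evC [1, 8, 2, 24, 1], evC [6], evC [0, 3, 6, 8, 2, 24], evC [0, 8, 5, 0]} : Set CM) with hH
    have m0 : evC [1, 1] ∈ H := Subgroup.subset_closure (by simp [← tM_eq])
    have m1 : evC [2] ∈ H := Subgroup.subset_closure (by simp [← uM_eq])
    have m2 : evC [1, 8, 2, 24, 1] ∈ H := Subgroup.subset_closure (by simp)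
    have m3 : evC [6] ∈ H := Subgroup.subset_closure (by simp)
    have m4 : evC [0, 3, 6, 8, 2, 24] ∈ H := Subgroup.subset_closure (by simp)
    have m5 : evC (winv [0, 3, 6, 8, 2, 24]) ∈ H := by rw [evC_winv]; exact inv_mem m4
    have m6 : evC [0, 8, 5, 0] ∈ H := Subgroup.subset_closure (by simp)
    intro x hx
    simp only [List.mem_cons, List.not_mem_nil, or_false] at hx
    rcases hx with rfl | rfl | rfl | rfl
    · have e := eq_of_eqChk (l := [[0]]) (r := [[0, 3, 6, 8, 2, 24], [6], [0, 3, 6, 8, 2, 24]]) (by decide +kernel)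
      simp only [List.map_cons, List.map_nil, List.prod_cons, List.prod_nil, mul_one] at e
      rw [show ltr 0 = evC [0] by simp [evC], e]
      exact mul_mem m4 (mul_mem m3 (m4))
    · have e := eq_of_eqChk (l := [[3]]) (r := [[1, 8, 2, 24, 1], [0, 3, 6, 8, 2, 24], [6], [0, 3, 6, 8, 2, 24], [1, 8, 2, 24, 1], [6]]) (by decide +kernel)
      simp only [List.map_cons, List.map_nil, List.prod_cons, List.prod_nil, mul_one] at e
      rw [show ltr 3 = evC [3] by simp [evC], e]
      exact mul_mem m2 (mul_mem m4 (mul_mem m3 (mul_mem m4 (mul_mem m2 (m3)))))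
    · rw [show ltr 6 = evC [6] by simp [evC]]
      exact m3
    · have e := eq_of_eqChk (l := [[24]]) (r := [[6], winv [0, 3, 6, 8, 2, 24], [0, 8, 5, 0], [6], [0, 3, 6, 8, 2, 24], [1, 8, 2, 24, 1], [6], [0, 3, 6, 8, 2, 24], [0, 8, 5, 0], [6], winv [0, 3, 6, 8, 2, 24], [0, 8, 5, 0]]) (by decide +kernel)
      simp only [List.map_cons, List.map_nil, List.prod_cons, List.prod_nil, mul_one] at e
      rw [show ltr 24 = evC [24] by simp [evC], e]
      exact mul_mem m3 (mul_mem m5 (mul_mem m6 (mul_mem m3 (mul_mem m4 (mul_mem m2 (mul_mem m3 (mul_mem m4 (mul_mem m6 (mul_mem m3 (mul_mem m5 (m6)))))))))))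

/-- The frame 3 for `e`. -/
theorem eBase_3 : ∃ e : CM, RFrame tM uM (el 140 : CM) (el 4 : CM) (el 243 : CM) ∧
    EFrame tM uM (el 140 : CM) (el 4 : CM) (el 243 : CM) e ∧
    Subgroup.closure ({tM, uM, (el 140 : CM), (el 4 : CM), (el 243 : CM), e} : Set CM) = ⊤ := by
  have hc : (el 140 : CM) = evC [1, 8, 2, 24, 1] := el_eq_evC (by decide +kernel)
  have hd : (el 4 : CM) = evC [6] := el_eq_evC (by decide +kernel)
  have hg : (el 243 : CM) = evC [9, 11, 24, 9, 1, 17] := el_eq_evC (by decide +kernel)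
  refine ⟨evC [0, 8, 5, 0], ?_, ?_, ?_⟩
  · rw [hc, hd, hg]; exact rframe_of (by decide +kernel)
  · rw [hc, hd, hg]; exact eframe_of (by decide +kernel)
  · rw [hc, hd, hg]
    apply eq_top_of_letters
    set H := Subgroup.closure ({tM, uM, evC [1, 8, 2, 24, 1], evC [6], evC [9, 11, 24, 9, 1, 17], evC [0, 8, 5, 0]} : Set CM) with hH
    have m0 : evC [1, 1] ∈ H := Subgroup.subset_closure (by simp [← tM_eq])
    have m1 : evC [2] ∈ H := Subgroup.subset_closure (by simp [← uM_eq])
    have m2 : evC [1, 8, 2, 24, 1] ∈ H := Subgroup.subset_closure (by simp)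
    have m3 : evC [6] ∈ H := Subgroup.subset_closure (by simp)
    have m4 : evC [9, 11, 24, 9, 1, 17] ∈ H := Subgroup.subset_closure (by simp)
    have m5 : evC (winv [9, 11, 24, 9, 1, 17]) ∈ H := by rw [evC_winv]; exact inv_mem m4
    have m6 : evC [0, 8, 5, 0] ∈ H := Subgroup.subset_closure (by simp)
    intro x hx
    simp only [List.mem_cons, List.not_mem_nil, or_false] at hx
    rcases hx with rfl | rfl | rfl | rfl
    · have e := eq_of_eqChk (l := [[0]]) (r := [[9, 11, 24, 9, 1, 17], [6], [9, 11, 24, 9, 1, 17]]) (by decide +kernel)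
      simp only [List.map_cons, List.map_nil, List.prod_cons, List.prod_nil, mul_one] at e
      rw [show ltr 0 = evC [0] by simp [evC], e]
      exact mul_mem m4 (mul_mem m3 (m4))
    · have e := eq_of_eqChk (l := [[3]]) (r := [[1, 8, 2, 24, 1], [9, 11, 24, 9, 1, 17], [6], [9, 11, 24, 9, 1, 17], [1, 8, 2, 24, 1], [6]]) (by decide +kernel)
      simp only [List.map_cons, List.map_nil, List.prod_cons, List.prod_nil, mul_one] at e
      rw [show ltr 3 = evC [3] by simp [evC], e]
      exact mul_mem m2 (mul_mem m4 (mul_mem m3 (mul_mem m4 (mul_mem m2 (m3)))))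
    · rw [show ltr 6 = evC [6] by simp [evC]]
      exact m3
    · have e := eq_of_eqChk (l := [[24]]) (r := [[6], winv [9, 11, 24, 9, 1, 17], [0, 8, 5, 0], [6], [9, 11, 24, 9, 1, 17], [1, 8, 2, 24, 1], [6], [9, 11, 24, 9, 1, 17], [0, 8, 5, 0], [6], winv [9, 11, 24, 9, 1, 17], [0, 8, 5, 0]]) (by decide +kernel)
      simp only [List.map_cons, List.map_nil, List.prod_cons, List.prod_nil, mul_one] at e
      rw [show ltr 24 = evC [24] by simp [evC], e]
      exact mul_mem m3 (mul_mem m5 (mul_mem m6 (mul_mem m3 (mul_mem m4 (mul_mem m2 (mul_mem m3 (mul_mem m4 (mul_mem m6 (mul_mem m3 (mul_mem m5 (m6)))))))))))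

/-- The base frame 0 for `b`. -/
theorem bBase_0 : ∃ e : CM, BFrame uM tM (el 1 : CM) (el 156 : CM) (el 164 : CM) e := by
  have hc : (el 1 : CM) = evC [0] := el_eq_evC (by decide +kernel)
  have hd : (el 156 : CM) = evC [7, 8, 2, 24, 7] := el_eq_evC (by decide +kernel)
  have hg : (el 164 : CM) = evC [24, 3, 9, 3, 9] := el_eq_evC (by decide +kernel)
  refine ⟨evC [6, 8, 23, 6], ?_⟩
  rw [hc, hd, hg]
  exact bframe_of (Q := [1, 3, 4, 8, 7]) (N := [6, 0, 10]) (by decide +kernel)

/-- The base frame 1 for `b`. -/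
theorem bBase_1 : ∃ e : CM, BFrame uM tM (el 1 : CM) (el 156 : CM) (el 219 : CM) e := by
  have hc : (el 1 : CM) = evC [0] := el_eq_evC (by decide +kernel)
  have hd : (el 156 : CM) = evC [7, 8, 2, 24, 7] := el_eq_evC (by decide +kernel)
  have hg : (el 219 : CM) = evC [5, 1, 9, 24, 9, 11] := el_eq_evC (by decide +kernel)
  refine ⟨evC [6, 8, 23, 6], ?_⟩
  rw [hc, hd, hg]
  exact bframe_of (Q := [4, 9, 0, 2, 15, 8]) (N := [2, 6, 10]) (by decide +kernel)

/-- The base frame 2 for `b`. -/
theorem bBase_2 : ∃ e : CM, BFrame uM tM (el 1 : CM) (el 188 : CM) (el 111 : CM) e := by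
  have hc : (el 1 : CM) = evC [0] := el_eq_evC (by decide +kernel)
  have hd : (el 188 : CM) = evC [1, 2, 8, 2, 24, 1] := el_eq_evC (by decide +kernel)
  have hg : (el 111 : CM) = evC [8, 2, 24, 15] := el_eq_evC (by decide +kernel)
  refine ⟨evC [6, 8, 10, 11, 6], ?_⟩
  rw [hc, hd, hg]
  exact bframe_of (Q := [6, 0, 1, 8, 7]) (N := [6, 0, 10]) (by decide +kernel)

/-- The base frame 3 for `b`. -/
theorem bBase_3 : ∃ e : CM, BFrame uM tM (el 1 : CM) (el 188 : CM) (el 171 : CM) e := by
  have hc : (el 1 : CM) = evC [0] := el_eq_evC (by decide +kernel)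
  have hd : (el 188 : CM) = evC [1, 2, 8, 2, 24, 1] := el_eq_evC (by decide +kernel)
  have hg : (el 171 : CM) = evC [0, 3, 6, 8, 2, 24] := el_eq_evC (by decide +kernel)
  refine ⟨evC [6, 8, 10, 11, 6], ?_⟩
  rw [hc, hd, hg]
  exact bframe_of (Q := [4, 8, 9, 0, 15, 8]) (N := [2, 6, 10]) (by decide +kernel)

theorem exists_nu : ∃ n : CM, n * n = 1 ∧ n * tM = tM * n ∧ n * uM * n = tM * uM := by
  refine ⟨evC [1, 2], ?_, ?_, ?_⟩
  · rw [← evC_append, ← evC_nil]; exact evC_eq (by decide +kernel)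
  · rw [tM_eq, ← evC_append, ← evC_append]; exact evC_eq (by decide +kernel)
  · rw [tM_eq, uM_eq, ← evC_append, ← evC_append, ← evC_append]; exact evC_eq (by decide +kernel)

end CfsgLib.ONanRec
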