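import Cfsg.Agent.ONanRec.RTable

/-!
# Frames from words

The relations of `RFrame`, `EFrame` and `BFrame` for elements given by words, by one check each.
-/

set_option autoImplicit false
set_option linter.style.longLine false
set_option maxRecDepth 4000

namespace CfsgLib.ONanRec

open CfsgLib.MultPSLThreeFour

/-- The check that two products of words agree. -/
def eqChk (l r : List (List (Fin 25))) : Bool := chkK ((l.flatten ++ winv r.flatten).map Fin.val)

theorem eq_of_eqChk {l r : List (List (Fin 25))} (h : eqChk l r = true) :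
    (l.map evC).prod = (r.map evC).prod := by
  rw [← evC_flatten, ← evC_flatten]
  exact evC_eq h

/-- The relations of `RFrame` on words. -/
def rChk (C D G : List (Fin 25)) : Bool :=
  eqChk [C, C] [] && (eqChk [D, D] [] && (eqChk [[1, 1], C] [C, [1, 1]] &&
  (eqChk [[1, 1], D] [D, [1, 1]] && (eqChk [[2], C] [C, [2]] && (eqChk [[2], D] [D, [2]] &&
  (eqChk [G, G] [[1, 1], [2]] && (eqChk [C, D, C, D, C, D, C, D] [[1, 1], [2]] &&
  (eqChk [C, D, G, D, G] [D, G, D, G, C] && eqChk [D, C, G, C, G] [C, G, C, G, D]))))))))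

theorem rframe_of {C D G : List (Fin 25)} (h : rChk C D G = true) :
    RFrame tM uM (evC C) (evC D) (evC G) := by
  simp only [rChk, Bool.and_eq_true] at h
  obtain ⟨h1, h2, h3, h4, h5, h6, h7, h8, h9, h10⟩ := h
  have e1 := eq_of_eqChk h1
  have e2 := eq_of_eqChk h2
  have e3 := eq_of_eqChk h3
  have e4 := eq_of_eqChk h4
  have e5 := eq_of_eqChk h5
  have e6 := eq_of_eqChk h6
  have e7 := eq_of_eqChk h7
  have e8 := eq_of_eqChk h8
  have e9 := eq_of_eqChk h9
  have e10 := eq_of_eqChk h10
  simp only [List.map_cons, List.map_nil, List.prod_cons, List.prod_nil, mul_one, ← tM_eq, ← uM_eq]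
    at e1 e2 e3 e4 e5 e6 e7 e8 e9 e10
  exact
    { aa := tM_sq, ff := uM_sq, cc := e1, dd := e2, af := tM_mul_uM, ac := e3, ad := e4, fc := e5
      fd := e6
      gg := by rw [pow_two]; exact e7
      cd := by simpa [pow_succ, mul_assoc] using e8
      cdg := by simpa [mul_assoc] using e9
      dcg := by simpa [mul_assoc] using e10 }

/-- The relations of `EFrame` on words. -/
def eChk (C D G E : List (Fin 25)) : Bool :=
  eqChk [E, E] [] && (eqChk [E, [1, 1]] [[1, 1], E] && (eqChk [E, C] [C, E] &&
  (eqChk [E, [2], E, [2], E, [2]] [] && (eqChk [D, E, D, E, D, E] [] &&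
  (eqChk [G, E, winv D, G, D, winv E, G, E, winv D, G, D] [] &&
  (eqChk [E, G, C, winv G] [G, C, winv G, E] &&
  eqChk [G, C, winv G, C, G, C, winv G] [[1, 1], C]))))))

theorem eframe_of {C D G E : List (Fin 25)} (h : eChk C D G E = true) :
    EFrame tM uM (evC C) (evC D) (evC G) (evC E) := by
  simp only [eChk, Bool.and_eq_true] at h
  obtain ⟨h1, h2, h3, h4, h5, h6, h7, h8⟩ := h
  have e1 := eq_of_eqChk h1
  have e2 := eq_of_eqChk h2
  have e3 := eq_of_eqChk h3
  have e4 := eq_of_eqChk h4
  have e5 := eq_of_eqChk h5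
  have e6 := eq_of_eqChk h6
  have e7 := eq_of_eqChk h7
  have e8 := eq_of_eqChk h8
  simp only [List.map_cons, List.map_nil, List.prod_cons, List.prod_nil, mul_one, ← tM_eq, ← uM_eq,
    evC_winv] at e1 e2 e3 e4 e5 e6 e7 e8
  exact
    { ee := e1, ea := e2, ec := e3
      ef := by simpa [pow_succ, mul_assoc] using e4
      ed := by simpa [pow_succ, mul_assoc] using e5
      rel := by simpa [mul_assoc] using e6
      em := by simpa [mul_assoc] using e7
      mU := by simpa [mul_assoc] using e8 }

/-- The relations of `BFrame` on words; `Q` and `N` are short words for `bcdg` and for the product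
in `nm`. -/
def bChk (C D G B Q N : List (Fin 25)) : Bool :=
  eqChk [B, B] [] && (eqChk [B, [1, 1]] [[1, 1], B] && (eqChk [B, D] [D, B] &&
  (eqChk [[2], B, [2], B, [2], B] [] && (eqChk [B, C, B, C, B, C] [] &&
  (eqChk [G, B, winv C, G, C, winv B, G, B, winv C, G, C] [] &&
  (eqChk [B, C, D, G] [Q] && (eqChk [Q, Q, Q, Q, Q] [] &&
  (eqChk [B, [2], C, B, G, C, winv G] [N] && eqChk [N, N, N] []))))))))

theorem bframe_of {C D G B Q N : List (Fin 25)} (h : bChk C D G B Q N = true) :
    BFrame uM tM (evC C) (evC D) (evC G) (evC B) := by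
  simp only [bChk, Bool.and_eq_true] at h
  obtain ⟨h1, h2, h3, h4, h5, h6, h7, h8, h9, h10⟩ := h
  have e1 := eq_of_eqChk h1
  have e2 := eq_of_eqChk h2
  have e3 := eq_of_eqChk h3
  have e4 := eq_of_eqChk h4
  have e5 := eq_of_eqChk h5
  have e6 := eq_of_eqChk h6
  have e7 := eq_of_eqChk h7
  have e8 := eq_of_eqChk h8
  have e9 := eq_of_eqChk h9
  have e10 := eq_of_eqChk h10
  simp only [List.map_cons, List.map_nil, List.prod_cons, List.prod_nil, mul_one, ← tM_eq, ← uM_eq,
    evC_winv] at e1 e2 e3 e4 e5 e6 e7 e8 e9 e10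
  exact
    { bb := e1, bf := e2, bd := e3
      ba := by simpa [pow_succ, mul_assoc] using e4
      bc := by simpa [pow_succ, mul_assoc] using e5
      rel := by simpa [mul_assoc] using e6
      five := by
        rw [show evC B * evC C * evC D * evC G = evC Q by simpa [mul_assoc] using e7]
        simpa [pow_succ, mul_assoc] using e8
      nm := by
        rw [show evC B * (uM * evC C) * evC B * (evC G * evC C * (evC G)⁻¹) = evC N by
          simpa [mul_assoc] using e9]
        simpa [pow_succ, mul_assoc] using e10 }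

end CfsgLib.ONanRec
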