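import Cfsg.Agent.ONanRec.RTableData

/-!
# The group `RR` from three generators

A word of `RR` is recognised by one number, its key; right multiplication by the generators is
tabulated.  Given `Nat.card RR ≤ 256` every element is one of the 256 tabulated ones.
-/

set_option autoImplicit false
set_option linter.style.longLine false
set_option linter.style.haveILetI false
set_option maxRecDepth 4000

namespace CfsgLib.ONanRec

open CfsgLib.MultPSLThreeFour

instance : Finite CM := inferInstanceAs (Finite (CT ⧸ KC))

theorem evC_nil : evC [] = 1 := rfl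

theorem evC_append (v w : List (Fin 25)) : evC (v ++ w) = evC v * evC w := by
  rw [evC, evC, evC, List.map_append, List.prod_append]

theorem evC_flatten (l : List (List (Fin 25))) : evC l.flatten = (l.map evC).prod := by
  induction l with
  | nil => rfl
  | cons a l ih => rw [List.flatten_cons, evC_append, ih, List.map_cons, List.prod_cons]

/-- The inverse of a letter. -/
def flipC (g : Fin 25) : Fin 25 :=
  if h : g.val < 24 then ⟨(g.val + 12) % 24, by omega⟩ else g

/-- The inverse of a word. -/
def winv (w : List (Fin 25)) : List (Fin 25) := (w.map flipC).reverse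

theorem pC_flip (g : Fin 25) : pC (flipC g) = (pC g)⁻¹ := by
  by_cases h : g.val < 24
  · rw [flipC, dif_pos h, pC_lt (g := ⟨(g.val + 12) % 24, by omega⟩) (Nat.mod_lt _ (by omega)),
      pC_lt h]
    refine Equiv.ext fun x => ?_
    show act _ x = act (flip24 ⟨g.val, h⟩) x
    congr 2
  · rw [flipC, dif_neg h, pC_ge h]
    rfl

theorem ltr_flip (g : Fin 25) : ltr (flipC g) = (ltr g)⁻¹ := by
  rw [ltr, ltr, ← QuotientGroup.mk_inv]
  exact congrArg QuotientGroup.mk (Subtype.ext (pC_flip g))

theorem evC_winv (w : List (Fin 25)) : evC (winv w) = (evC w)⁻¹ := by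
  induction w with
  | nil => simp [winv, evC]
  | cons g w ih =>
    rw [winv, List.map_cons, List.reverse_cons, evC_append, ← winv, ih]
    simp [evC, ltr_flip, mul_inv_rev]

/-- Two words with the same value, by a check of their quotient. -/
theorem evC_eq {v w : List (Fin 25)} (h : chkK ((v ++ winv w).map Fin.val) = true) :
    evC v = evC w := by
  have := evC_eq_one _ h
  rwa [evC_append, evC_winv, mul_inv_eq_one] at this

/-- An encoded point modulo the scalars. -/
def red (s : ℕ) : ℕ := s % 65536 + s / 65536 % 2 * 65536 + s / 16777216 * 16777216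

/-- The key of a word. -/
def keyW (w : List (Fin 25)) : ℕ := red (runC (w.map Fin.val) 6)

theorem red_enc (q : Fin 280) (t : Vlt) :
    red (enc (q, t)) = q.val + t.1.val % 2 * 65536 + t.2.val * 16777216 := by
  have h0 := q.isLt
  have h1 : t.1.val < 8 := ZMod.val_lt _
  simp only [red, enc]
  omega

theorem red_shift (q : Fin 280) (t : Vlt) (a : ZMod 4) :
    red (enc (q, t + dbl (a, 0))) = red (enc (q, t)) := by
  have key : ∀ (v : ZMod 8) (b : ZMod 4), (v + (dbl (b, 0)).1).val % 2 = v.val % 2 := by decide
  have key2 : ∀ b : ZMod 4, (dbl (b, 0)).2 = 0 := by decide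
  rw [red_enc, red_enc]
  show q.val + (t.1 + (dbl (a, 0)).1).val % 2 * 65536 + (t.2 + (dbl (a, 0)).2).val * 16777216 = _
  rw [key, key2, add_zero]

theorem keyW_congr {v w : List (Fin 25)} (h : evC v = evC w) : keyW v = keyW w := by
  have hl : ∀ u : List (Fin 25), evC u =
      QuotientGroup.mk' KC (u.map fun g => ⟨pC g, Subgroup.subset_closure ⟨g, rfl⟩⟩).prod := by
    intro u
    rw [map_list_prod, evC, List.map_map]
    rfl
  rw [hl, hl, QuotientGroup.mk'_apply, QuotientGroup.mk'_apply, QuotientGroup.eq, KC,
    Subgroup.mem_subgroupOf] at h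
  obtain ⟨a, ha⟩ := h
  simp only [Subgroup.coe_mul, InvMemClass.coe_inv, Subgroup.val_list_prod, List.map_map] at ha
  have hw : ((w.map pC).prod : Equiv.Perm Pt) = (v.map pC).prod * tr (dbl (a, 0)) := by
    change ((v.map pC).prod)⁻¹ * (w.map pC).prod = _ at ha
    rw [← ha, mul_inv_cancel_left]
  have e6 : (6 : ℕ) = enc ((6 : Fin 280), (0 : Vlt)) := by rw [enc_base]; rfl
  rw [keyW, keyW, e6, runC_enc, runC_enc, hw, Equiv.Perm.mul_apply,
    show tr (dbl (a, 0)) ((6 : Fin 280), (0 : Vlt)) = ((6 : Fin 280), (0 : Vlt) + dbl (a, 0)) from rfl,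
    prod_shift v ((6 : Fin 280), (0 : Vlt)) (dbl (a, 0)), ← map_nsmul, Prod.smul_mk, smul_zero,
    red_shift]

/-- The word of an element. -/
def gWord (l : List (Fin 3)) : List (Fin 25) := (l.map fun k => rgW.getD k.val []).flatten

/-- The generator words of an element. -/
def rW (i : ℕ) : List (Fin 3) := rWords.getD i []

theorem gens_mem_check :
    (allBelow 3 fun k =>
      chkK (([1, 1] ++ rgW.getD k [] ++ winv (rgW.getD k [] ++ [1, 1])).map Fin.val) &&
        chkK (([2] ++ rgW.getD k [] ++ winv (rgW.getD k [] ++ [2])).map Fin.val)) = true := by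
  decide +kernel

theorem tM_eq : tM = evC [1, 1] := evC_eq (by decide +kernel)

theorem uM_eq : uM = evC [2] := by simp [uM, evC]

theorem mem_RR {x : CM} : x ∈ RR ↔ tM * x = x * tM ∧ uM * x = x * uM := by
  rw [RR, Subgroup.mem_centralizer_iff]
  simp

theorem tM_mul_uM : tM * uM = uM * tM := by
  rw [tM_eq, uM_eq, ← evC_append, ← evC_append]
  exact evC_eq (by decide +kernel)

theorem tM_mem_RR : tM ∈ RR := mem_RR.2 ⟨rfl, tM_mul_uM.symm⟩

theorem uM_mem_RR : uM ∈ RR := mem_RR.2 ⟨tM_mul_uM, rfl⟩

theorem gen_mem (k : Fin 3) : evC (rgW.getD k.val []) ∈ RR := by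
  have h := of_allBelow gens_mem_check k.val k.isLt
  rw [Bool.and_eq_true] at h
  refine mem_RR.2 ⟨?_, ?_⟩
  · rw [tM_eq, ← evC_append, ← evC_append]; exact evC_eq h.1
  · rw [uM_eq, ← evC_append, ← evC_append]; exact evC_eq h.2

/-- A generator of `RR`. -/
def rgen (k : Fin 3) : RR := ⟨evC (rgW.getD k.val []), gen_mem k⟩

/-- A tabulated element. -/
def el (i : ℕ) : RR := ((rW i).map rgen).prod

theorem coe_prod_rgen (l : List (Fin 3)) : ((l.map rgen).prod : CM) = evC (gWord l) := by
  rw [Subgroup.val_list_prod, gWord, evC_flatten, List.map_map, List.map_map]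
  rfl

/-- Equal elements of `RR`, by keys. -/
theorem key_of_eq {v w : List (Fin 3)} (h : (v.map rgen).prod = (w.map rgen).prod) :
    keyW (gWord v) = keyW (gWord w) :=
  keyW_congr (by rw [← coe_prod_rgen, ← coe_prod_rgen, h])

/-- A packed key. -/
def rKey (i : ℕ) : ℕ := (rKeys >>> (32 * i)) % 4294967296

theorem key_check : (allBelow 256 fun i => Nat.beq (keyW (gWord (rW i))) (rKey i)) = true := by
  decide +kernel

theorem key_distinct :
    (allBelow 256 fun i => allBelow i fun j => !Nat.beq (rKey j) (rKey i)) = true := by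
  decide +kernel

theorem rKey_inj {i j : ℕ} (hi : i < 256) (hj : j < 256) (h : rKey i = rKey j) : i = j := by
  have main : ∀ a < 256, ∀ b < a, rKey b ≠ rKey a := fun a ha b hb e => by
    have := of_allBelow (of_allBelow key_distinct a ha) b hb
    rw [e, Nat.beq_refl] at this
    exact Bool.false_ne_true this
  rcases lt_trichotomy i j with h' | h' | h'
  · exact absurd h (main j hj i h')
  · exact h'
  · exact absurd h.symm (main i hi j h')

theorem el_key {i : ℕ} (hi : i < 256) : keyW (gWord (rW i)) = rKey i :=
  Nat.eq_of_beq_eq_true (of_allBelow key_check i hi)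

theorem el_inj {i j : ℕ} (hi : i < 256) (hj : j < 256) (h : el i = el j) : i = j :=
  rKey_inj hi hj (by rw [← el_key hi, ← el_key hj]; exact key_of_eq h)

theorem el_injective : Function.Injective fun i : Fin 256 => el i.val :=
  fun i j h => Fin.ext (el_inj i.isLt j.isLt h)

theorem le_card_RR : 256 ≤ Nat.card RR := by
  have := Nat.card_le_card_of_injective _ el_injective
  rwa [Nat.card_fin] at this

theorem card_RR (hle : Nat.card RR ≤ 256) : Nat.card RR = 256 := le_antisymm hle le_card_RR

theorem el_surj (hle : Nat.card RR ≤ 256) (x : RR) : ∃ i < 256, el i = x := by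
  have hb : Function.Bijective fun i : Fin 256 => el i.val := by
    rw [Nat.bijective_iff_injective_and_card, Nat.card_fin, card_RR hle]
    exact ⟨el_injective, rfl⟩
  obtain ⟨i, hi⟩ := hb.2 x
  exact ⟨i.val, i.isLt, hi⟩

/-- Equality with a tabulated element, by keys. -/
theorem prod_eq_el (hle : Nat.card RR ≤ 256) {l : List (Fin 3)} {j : ℕ} (hj : j < 256)
    (h : keyW (gWord l) = rKey j) : (l.map rgen).prod = el j := by
  obtain ⟨i, hi, e⟩ := el_surj hle (l.map rgen).prod
  have : i = j := rKey_inj hi hj (by rw [← el_key hi, key_of_eq (show _ = _ from e), h])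
  rw [← e, this]

/-- Right multiplication by a generator. -/
def rStep (r : ℕ) (k : Fin 3) : ℕ :=
  ((bif Nat.beq k.val 0 then rCol0 else bif Nat.beq k.val 1 then rCol1 else rCol2) >>> (8 * r)) % 256

theorem step_check :
    (allBelow 256 fun i => ([0, 1, 2] : List (Fin 3)).all fun k =>
      Nat.beq (keyW (gWord (rW i ++ [k]))) (rKey (rStep i k))) = true := by
  decide +kernel

theorem rStep_lt (r : ℕ) (k : Fin 3) : rStep r k < 256 := Nat.mod_lt _ (by norm_num)

theorem el_rgen (hle : Nat.card RR ≤ 256) {i : ℕ} (hi : i < 256) (k : Fin 3) :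
    el i * rgen k = el (rStep i k) := by
  have h := List.all_eq_true.1 (of_allBelow step_check i hi) k (by fin_cases k <;> decide)
  have := prod_eq_el hle (rStep_lt i k) (Nat.eq_of_beq_eq_true h)
  rwa [List.map_append, List.prod_append, List.map_cons, List.map_nil, List.prod_cons,
    List.prod_nil, mul_one] at this

/-- The product of an element with a word in the generators. -/
def mulW (r : ℕ) (l : List (Fin 3)) : ℕ := l.foldl rStep r

theorem mulW_lt {r : ℕ} (hr : r < 256) (l : List (Fin 3)) : mulW r l < 256 := by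
  induction l generalizing r with
  | nil => exact hr
  | cons k l ih => exact ih (rStep_lt r k)

theorem el_mulW (hle : Nat.card RR ≤ 256) {r : ℕ} (hr : r < 256) (l : List (Fin 3)) :
    el r * (l.map rgen).prod = el (mulW r l) := by
  induction l generalizing r with
  | nil => simp [mulW]
  | cons k l ih =>
    rw [List.map_cons, List.prod_cons, ← mul_assoc, el_rgen hle hr k, ih (rStep_lt r k)]
    rfl

/-- The product of two elements. -/
def mulI (r j : ℕ) : ℕ := mulW r (rW j)

theorem mulI_lt {r : ℕ} (hr : r < 256) (j : ℕ) : mulI r j < 256 := mulW_lt hr _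

theorem el_mul (hle : Nat.card RR ≤ 256) {r : ℕ} (hr : r < 256) (j : ℕ) :
    el r * el j = el (mulI r j) :=
  el_mulW hle hr _

theorem el_zero : el 0 = 1 := rfl

end CfsgLib.ONanRec
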