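import Cfsg.Agent.ONanRec.Cover

/-!
# Checked words in the monomial cover

An element is a word in the letters times a scalar. A quotient of the cover by a cyclic group of order
four of scalars is described by an index `i : Fin 6`; equations and inequations in it are decided on
the table. A substitution of the letters predicts the value of an automorphism on balanced words
(products of commutators of letters) exactly.
-/

set_option autoImplicit false
set_option linter.unusedSectionVars false
set_option linter.style.haveILetI false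

namespace CfsgLib.ONanRec

open CfsgLib.MultPSLThreeFour CfsgLib.MultPSL
open scoped commutatorElement

/-- The scalars. -/
abbrev Sc := ZMod 4 × ZMod 4

/-- A word and a scalar. -/
abbrev El := List (Fin 24) × Sc

/-- A product of commutators of letters. -/
abbrev PW := List (Fin 24 × Fin 24)

/-- A word in `M0`. -/
def el0 (w : List (Fin 24)) : M0 := ⟨ev w, ev_mem w⟩

theorem el0_append (v w : List (Fin 24)) : el0 (v ++ w) = el0 v * el0 w :=
  Subtype.ext (by simp [el0, ev])

theorem el0_nil : el0 [] = 1 := Subtype.ext (by simp [el0, ev])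

theorem el0_cons (g : Fin 24) (w : List (Fin 24)) : el0 (g :: w) = g0 g * el0 w :=
  Subtype.ext (by simp [el0, ev, g0])

theorem g0_flip (g : Fin 24) : g0 (flip24 g) = (g0 g)⁻¹ := Subtype.ext (by simp [g0, gen_flip])

/-- The inverse word. -/
def inv24 (w : List (Fin 24)) : List (Fin 24) := (w.map flip24).reverse

theorem el0_inv24 (w : List (Fin 24)) : el0 (inv24 w) = (el0 w)⁻¹ := by
  induction w with
  | nil => simp [inv24, el0_nil]
  | cons g w ih =>
    rw [inv24, List.map_cons, List.reverse_cons, el0_append, ← inv24, ih, el0_cons, el0_cons,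
      el0_nil, mul_one, g0_flip, mul_inv_rev]

/-- The value of an element. -/
def val (e : El) : M0 := el0 e.1 * sc0 (Multiplicative.ofAdd e.2)

/-- The product of two elements. -/
def emul (a b : El) : El := (a.1 ++ b.1, a.2 + b.2)

/-- The inverse of an element. -/
def einv (a : El) : El := (inv24 a.1, -a.2)

theorem sc0_comm (c : Multiplicative Sc) (m : M0) : sc0 c * m = m * sc0 c :=
  (Subgroup.mem_center_iff.1 (sc0_central c) m).symm

theorem val_emul (a b : El) : val (emul a b) = val a * val b := by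
  rw [val, val, val, emul, el0_append, ofAdd_add, map_mul, mul_assoc (el0 a.1) (sc0 _),
    ← mul_assoc (sc0 (Multiplicative.ofAdd a.2)) (el0 b.1), sc0_comm _ (el0 b.1)]
  simp only [mul_assoc]

theorem val_einv (a : El) : val (einv a) = (val a)⁻¹ := by
  rw [val, val, einv, el0_inv24, ofAdd_neg, map_inv, mul_inv_rev, ← map_inv, sc0_comm]

/-- The scalar of a word fixing the first point. -/
def scOf (w : List ℕ) : Sc :=
  ((run w 0 / 65536 % 8 / 2 : ℕ), (run w 0 / 16777216 / 2 : ℕ))

theorem el0_eq_sc (w : List (Fin 24)) (h : chkF w = true) :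
    el0 w = sc0 (Multiplicative.ofAdd (scOf (w.map Fin.val))) := by
  obtain ⟨c, hc⟩ := ev_of_chk w h
  have h0 : enc ((w.foldr act ((0 : Fin 280), (0 : Vlt)))) = run (w.map Fin.val) 0 := by
    rw [← run_enc]; rfl
  have e : w.foldr act ((0 : Fin 280), (0 : Vlt)) = ((0 : Fin 280), dbl c.toAdd) := by
    rw [← ev_apply, ← hc]
    simp [sc, tr]
  have hs : scOf (w.map Fin.val) = c.toAdd := by
    obtain ⟨e1, e2⟩ := enc_div ((0 : Fin 280), dbl c.toAdd)
    rw [e] at h0
    rw [scOf, ← h0, e1, e2]
    have key : ∀ a : Sc, ((((dbl a).1.val / 2 : ℕ) : ZMod 4), (((dbl a).2.val / 2 : ℕ) : ZMod 4)) = a := by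
      decide
    exact key _
  rw [hs]
  exact Subtype.ext hc.symm

/-- Generators of the six cyclic subgroups of order four of the scalars. -/
def kers : Fin 6 → Sc := ![(0, 1), (1, 0), (1, 1), (1, 2), (1, 3), (2, 1)]

/-- Generators of complements. -/
def comp : Fin 6 → Sc := ![(1, 0), (0, 1), (0, 1), (0, 1), (0, 1), (1, 0)]

/-- Membership in a kernel. -/
def inK (i : Fin 6) (c : Sc) : Bool :=
  c == 0 || c == kers i || c == kers i + kers i || c == kers i + kers i + kers i

/-- A word moves one of the points. -/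
def moves (w : List (Fin 24)) : Bool :=
  !(allBelow 280 fun p => run (w.map Fin.val) p % 65536 == p)

/-- An element is trivial in the quotient. -/
def oneK (i : Fin 6) (e : El) : Bool := chkF e.1 && inK i (scOf (e.1.map Fin.val) + e.2)

/-- An element is non-trivial in the quotient. -/
def neK (i : Fin 6) (e : El) : Bool :=
  moves e.1 || (chkF e.1 && !inK i (scOf (e.1.map Fin.val) + e.2))

theorem allBelow_of {n : ℕ} {f : ℕ → Bool} (h : ∀ p < n, f p = true) : allBelow n f = true := by
  induction n with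
  | zero => rfl
  | succ n ih =>
    rw [allBelow, h n (Nat.lt_succ_self n), Bool.true_and]
    exact ih fun p hp => h p (Nat.lt_succ_of_lt hp)

theorem not_sc_of_moves (w : List (Fin 24)) (h : moves w = true) : el0 w ∉ sc0.range := by
  rintro ⟨c, hc⟩
  have hc' : sc c = ev w := congrArg Subtype.val hc
  have : (allBelow 280 fun p => run (w.map Fin.val) p % 65536 == p) = true := by
    refine allBelow_of fun p hp => ?_
    have e : run (w.map Fin.val) p = enc (w.foldr act ((⟨p, hp⟩ : Fin 280), (0 : Vlt))) := by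
      rw [← run_enc, enc_base]
    rw [e, ← ev_apply, ← hc', enc_mod]
    simp [sc, tr]
  rw [moves, this] at h
  exact Bool.false_ne_true h

section

variable {G : Type*} [Group G]

/-- `p` has kernel the scalars of index `i`. -/
def HasKer (p : M0 →* G) (i : Fin 6) : Prop :=
  p.ker ≤ sc0.range ∧ ∀ c : Sc, p (sc0 (Multiplicative.ofAdd c)) = 1 ↔ inK i c = true

theorem eq_one_of_oneK {p : M0 →* G} {i : Fin 6} (hp : HasKer p i) {e : El}
    (h : oneK i e = true) : p (val e) = 1 := by
  obtain ⟨h1, h2⟩ := Bool.and_eq_true_iff.1 h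
  rw [val, el0_eq_sc _ h1, ← map_mul sc0, ← ofAdd_add]
  exact (hp.2 _).2 h2

theorem ne_one_of_neK {p : M0 →* G} {i : Fin 6} (hp : HasKer p i) {e : El}
    (h : neK i e = true) : p (val e) ≠ 1 := by
  intro h0
  rcases Bool.or_eq_true_iff.1 h with h1 | h1
  · refine not_sc_of_moves _ h1 ?_
    have := mul_mem (hp.1 (MonoidHom.mem_ker.2 h0))
      (inv_mem (MonoidHom.mem_range.2 ⟨Multiplicative.ofAdd e.2, rfl⟩ : sc0 (Multiplicative.ofAdd e.2) ∈ sc0.range))
    rwa [val, mul_inv_cancel_right] at this
  · obtain ⟨h1, h2⟩ := Bool.and_eq_true_iff.1 h1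
    rw [val, el0_eq_sc _ h1, ← map_mul sc0, ← ofAdd_add] at h0
    simp [(hp.2 _).1 h0] at h2

theorem eq_of_oneK {p : M0 →* G} {i : Fin 6} (hp : HasKer p i) {a b : El}
    (h : oneK i (emul a (einv b)) = true) : p (val a) = p (val b) := by
  have := eq_one_of_oneK hp h
  rwa [val_emul, val_einv, map_mul, map_inv, mul_inv_eq_one] at this

theorem ne_of_neK {p : M0 →* G} {i : Fin 6} (hp : HasKer p i) {a b : El}
    (h : neK i (emul a (einv b)) = true) : p (val a) ≠ p (val b) := fun e =>
  ne_one_of_neK hp h (by rw [val_emul, val_einv, map_mul, map_inv, e, mul_inv_cancel])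

end

/-- The image of a commutator of letters under a substitution. -/
def cwS (s : Fin 24 → List (Fin 24)) (a b : Fin 24) : List (Fin 24) :=
  s a ++ s b ++ inv24 (s a) ++ inv24 (s b)

/-- The image of a balanced word under a substitution. -/
def flatS (s : Fin 24 → List (Fin 24)) (w : PW) : List (Fin 24) :=
  w.flatMap fun p => cwS s p.1 p.2

/-- A balanced word. -/
def flatP (w : PW) : List (Fin 24) := w.flatMap fun p => cw p.1 p.2

/-- The balanced word of the scalar `(1, 0)`. -/
def p10 : PW := [(lv 0 1, lu 1 2), (lv 1 2, lu 0 1)]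

/-- The balanced word of the scalar `(1, 1)`. -/
def p11 : PW := [(lv 0 1, lv 1 2), (lv 1 2, lu 0 1), (lu 1 2, lu 0 1)]

/-- The scalars predicted by a substitution. -/
def subSc (s : Fin 24 → List (Fin 24)) (c : Sc) : Sc :=
  (c.1 - c.2).val • scOf ((flatS s p10).map Fin.val) + c.2.val • scOf ((flatS s p11).map Fin.val)

/-- The condition for the scalars to be predicted. -/
def subOK (s : Fin 24 → List (Fin 24)) : Bool := chkF (flatS s p10) && chkF (flatS s p11)

/-- The image of a balanced element. -/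
def tw (s : Fin 24 → List (Fin 24)) (b : PW × Sc) : El := (flatS s b.1, subSc s b.2)

/-- A balanced element. -/
def bal (b : PW × Sc) : El := (flatP b.1, b.2)

section

variable {G : Type*} [Group G] {f f' : M0 →* G} {s : Fin 24 → List (Fin 24)}

theorem comm_central (a b z z' : G) (hzb : Commute z b) (hza : Commute z' a⁻¹)
    (hzz : Commute z⁻¹ z') : a * z * b * z' * z⁻¹ * a⁻¹ * z'⁻¹ * b⁻¹ = a * b * a⁻¹ * b⁻¹ := by
  rw [mul_assoc a z b, hzb.eq, mul_assoc (a * (b * z)) z' z⁻¹, ← hzz.eq]
  calc a * (b * z) * (z⁻¹ * z') * a⁻¹ * z'⁻¹ * b⁻¹ = a * b * (z' * a⁻¹) * z'⁻¹ * b⁻¹ := by group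
    _ = a * b * (a⁻¹ * z') * z'⁻¹ * b⁻¹ := by rw [hza.eq]
    _ = a * b * a⁻¹ * b⁻¹ := by group

/-- `f'` is `f` after the substitution up to scalars. -/
def Twists (f f' : M0 →* G) (s : Fin 24 → List (Fin 24)) : Prop :=
  ∀ g, ∃ c, f' (g0 g) = f (el0 (s g) * sc0 c)

theorem Twists.word {f f' : M0 →* G} {s : Fin 24 → List (Fin 24)} (h : Twists f f' s) (w : PW) : f' (el0 (flatP w)) = f (el0 (flatS s w)) := by
  induction w with
  | nil => simp [flatP, flatS, el0_nil]
  | cons q w ih =>
    rw [flatP, flatS, List.flatMap_cons, List.flatMap_cons, el0_append, el0_append, ← flatP, ← flatS,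
      map_mul, map_mul, ih]
    congr 1
    obtain ⟨c, hc⟩ := h q.1
    obtain ⟨d, hd⟩ := h q.2
    rw [cw, cwS, el0_cons, el0_cons, el0_cons, el0_cons, el0_nil, mul_one, g0_flip, g0_flip,
      el0_append, el0_append, el0_append, el0_inv24, el0_inv24]
    simp only [map_mul, map_inv, hc, hd, mul_inv_rev, ← mul_assoc]
    have k : ∀ (e : Multiplicative Sc) (m : M0), Commute (f (sc0 e)) (f m) := fun e m => by
      rw [Commute, SemiconjBy, ← map_mul, ← map_mul, sc0_comm]
    have hc' := k c (el0 (s q.2))
    have hd' := (k d (el0 (s q.1))).inv_right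
    have hcd := (k c (sc0 d)).inv_left
    exact comm_central _ _ _ _ hc' hd' hcd

theorem flatP_p10 : el0 (flatP p10) = sc0 (Multiplicative.ofAdd ((1, 0) : Sc)) :=
  Subtype.ext (ev_of_chkIs _ ((1, 0) : Sc) scalar_check.1)

theorem flatP_p11 : el0 (flatP p11) = sc0 (Multiplicative.ofAdd ((1, 1) : Sc)) :=
  Subtype.ext (ev_of_chkIs _ ((1, 1) : Sc) scalar_check.2)

theorem Twists.scalar (h : Twists f f' s) (hs : subOK s = true) (c : Sc) :
    f' (sc0 (Multiplicative.ofAdd c)) = f (sc0 (Multiplicative.ofAdd (subSc s c))) := by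
  obtain ⟨h1, h2⟩ := Bool.and_eq_true_iff.1 hs
  have e1 : f' (sc0 (Multiplicative.ofAdd ((1, 0) : Sc))) =
      f (sc0 (Multiplicative.ofAdd (scOf ((flatS s p10).map Fin.val)))) := by
    rw [← flatP_p10, h.word, el0_eq_sc _ h1]
  have e2 : f' (sc0 (Multiplicative.ofAdd ((1, 1) : Sc))) =
      f (sc0 (Multiplicative.ofAdd (scOf ((flatS s p11).map Fin.val)))) := by
    rw [← flatP_p11, h.word, el0_eq_sc _ h2]
  have e : ∀ c : Sc,
      (c.1 - c.2).val • ((1, 0) : Sc) + c.2.val • ((1, 1) : Sc) = c := by decide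
  conv_lhs => rw [← e c]
  rw [subSc]
  simp only [ofAdd_add, ofAdd_nsmul, map_mul, map_pow, e1, e2]

theorem Twists.bal_eq (h : Twists f f' s) (hs : subOK s = true) (b : PW × Sc) :
    f' (val (bal b)) = f (val (tw s b)) := by
  rw [val, val, map_mul, map_mul, bal, tw, h.word, h.scalar hs]

end

end CfsgLib.ONanRec
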